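import Mathlib
import Cfsg.Agent.Symplectic.AddChar

/-!
Weight spaces of one-parameter subgroups in a complex representation.
-/

set_option autoImplicit false
set_option linter.unusedSectionVars false

namespace Cfsg.Agent.H53.G2

open Module Cfsg.Agent.Symplectic
open scoped Classical

variable {F : Type*} [Field F] [Fintype F] {V : Type*} [AddCommGroup V] [Module ℂ V]
  [FiniteDimensional ℂ V]

/-- the common eigenvectors of a one-parameter family with the character `t ↦ ψ (a t)` -/
def eig (u : F → Module.End ℂ V) (a : F) : Submodule ℂ V where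
  carrier := {v | ∀ t, u t v = eChar F (a * t) • v}
  add_mem' {v w} hv hw t := by rw [map_add, hv t, hw t, smul_add]
  zero_mem' t := by simp
  smul_mem' c v hv t := by rw [map_smul, hv t, smul_comm]

theorem mem_eig {u : F → Module.End ℂ V} {a : F} {v : V} :
    v ∈ eig u a ↔ ∀ t, u t v = eChar F (a * t) • v := Iff.rfl

/-- the projection onto an eigenspace -/
noncomputable def eigProj (u : F → Module.End ℂ V) (a : F) : Module.End ℂ V :=
  (Fintype.card F : ℂ)⁻¹ • ∑ t, eChar F (-(a * t)) • u t

theorem cardF_ne : (Fintype.card F : ℂ) ≠ 0 := Nat.cast_ne_zero.2 Fintype.card_ne_zero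

theorem eigProj_apply (u : F → Module.End ℂ V) (a : F) (v : V) :
    eigProj u a v = (Fintype.card F : ℂ)⁻¹ • ∑ t, eChar F (-(a * t)) • u t v := by
  simp [eigProj]

theorem sum_eChar_mul (x : F) :
    ∑ t, eChar F (x * t) = if x = 0 then (Fintype.card F : ℂ) else 0 := by
  split
  · next h => simp [h]
  · next h => exact sum_comp_eq_zero (AddMonoidHom.mulLeft x) (eChar_exists_ne h)

theorem sum_ne_zero_eChar {x : F} (hx : x ≠ 0) :
    ∑ t ∈ Finset.univ.erase (0 : F), eChar F (x * t) = -1 := by
  have h := Finset.add_sum_erase Finset.univ (fun t => eChar F (x * t)) (Finset.mem_univ (0 : F))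
  rw [sum_eChar_mul, if_neg hx, mul_zero, AddChar.map_zero_eq_one] at h
  linear_combination h

variable {u : F → Module.End ℂ V}

theorem eigProj_mem_eig (hadd : ∀ s t, u (s + t) = u s * u t) (a : F) (v : V) :
    eigProj u a v ∈ eig u a := by
  intro s
  rw [eigProj_apply, map_smul, map_sum, smul_comm (eChar F (a * s))]
  congr 1
  rw [Finset.smul_sum]
  refine Fintype.sum_equiv (Equiv.addLeft s) _ _ fun t => ?_
  rw [Equiv.coe_addLeft, map_smul, hadd, Module.End.mul_apply, smul_smul,
    ← AddChar.map_add_eq_mul]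
  congr 2
  ring

theorem eigProj_of_mem {a b : F} {v : V} (hv : v ∈ eig u b) :
    eigProj u a v = if a = b then v else 0 := by
  rw [eigProj_apply]
  have : ∀ t, eChar F (-(a * t)) • u t v = eChar F ((b - a) * t) • v := by
    intro t
    rw [hv t, smul_smul, ← AddChar.map_add_eq_mul]
    congr 2
    ring
  simp only [this, ← Finset.sum_smul, sum_eChar_mul, sub_eq_zero]
  rcases eq_or_ne a b with h | h
  · rw [if_pos h.symm, if_pos h, smul_smul, inv_mul_cancel₀ cardF_ne, one_smul]
  · rw [if_neg h.symm, if_neg h, zero_smul, smul_zero]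

theorem eigProj_mem {W : Submodule ℂ V} (hW : ∀ t, ∀ v ∈ W, u t v ∈ W) (a : F) {v : V}
    (hv : v ∈ W) : eigProj u a v ∈ W := by
  rw [eigProj_apply]
  exact W.smul_mem _ (W.sum_mem fun t _ => W.smul_mem _ (hW t v hv))

theorem sum_eigProj (h0 : u 0 = 1) (v : V) : ∑ a, eigProj u a v = v := by
  simp only [eigProj_apply, ← Finset.smul_sum]
  rw [Finset.sum_comm, Finset.sum_eq_single (0 : F)]
  · simp [h0, Finset.sum_const, ← Nat.cast_smul_eq_nsmul ℂ, smul_smul,
      inv_mul_cancel₀ (cardF_ne (F := F))]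
  · intro t _ ht
    rw [← Finset.sum_smul]
    have : ∀ a : F, eChar F (-(a * t)) = eChar F ((-t) * a) := fun a => by congr 1; ring
    simp only [this, sum_eChar_mul, if_neg (neg_ne_zero.2 ht), zero_smul]
  · simp

/-- projections onto a set of eigenspaces inside an invariant subspace -/
theorem isProj_sum (hadd : ∀ s t, u (s + t) = u s * u t) {W : Submodule ℂ V}
    (hW : ∀ t, ∀ v ∈ W, u t v ∈ W) (a : F) :
    LinearMap.IsProj ((W ⊓ eig u a).comap W.subtype)
      ((eigProj u a).restrict fun _ h => eigProj_mem hW a h) := by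
  refine ⟨fun v => ⟨eigProj_mem hW a v.2, eigProj_mem_eig hadd a v⟩, fun v hv => ?_⟩
  exact Subtype.ext ((eigProj_of_mem hv.2).trans (if_pos rfl))

theorem finrank_comap_inf {W : Submodule ℂ V} (T : Submodule ℂ V) :
    finrank ℂ ((W ⊓ T).comap W.subtype) = finrank ℂ ↥(W ⊓ T) :=
  (Submodule.comapSubtypeEquivOfLe (inf_le_left : W ⊓ T ≤ W)).finrank_eq

theorem finrank_split (h0 : u 0 = 1) (hadd : ∀ s t, u (s + t) = u s * u t) {W : Submodule ℂ V}
    (hW : ∀ t, ∀ v ∈ W, u t v ∈ W) :
    finrank ℂ W = ∑ a, finrank ℂ ↥(W ⊓ eig u a) := by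
  have e : (1 : Module.End ℂ W) = ∑ a, (eigProj u a).restrict fun _ h => eigProj_mem hW a h := by
    refine LinearMap.ext fun v => Subtype.ext ?_
    rw [LinearMap.sum_apply, Submodule.coe_sum]
    exact (sum_eigProj h0 (v : V)).symm
  have h := congrArg (LinearMap.trace ℂ W) e
  rw [LinearMap.trace_one, map_sum,
    Finset.sum_congr rfl fun a _ => (isProj_sum hadd hW a).trace] at h
  simp only [finrank_comap_inf] at h
  exact_mod_cast h

theorem sum_finrank_le (hadd : ∀ s t, u (s + t) = u s * u t) {W W' : Submodule ℂ V}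
    (hW : ∀ t, ∀ v ∈ W, u t v ∈ W) (S : Finset F) (h : ∀ a ∈ S, W ⊓ eig u a ≤ W') :
    ∑ a ∈ S, finrank ℂ ↥(W ⊓ eig u a) ≤ finrank ℂ W' := by
  classical
  set P : Module.End ℂ W :=
    ∑ a ∈ S, (eigProj u a).restrict fun _ h => eigProj_mem hW a h with hP
  have hval : ∀ v : W, (P v : V) = ∑ a ∈ S, eigProj u a v := fun v => by
    rw [hP, LinearMap.sum_apply, Submodule.coe_sum]; rfl
  have hidem : IsIdempotentElem P := by
    refine LinearMap.ext fun v => Subtype.ext ?_
    rw [Module.End.mul_apply, hval, hval]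
    simp only [map_sum, eigProj_of_mem (eigProj_mem_eig hadd _ _)]
    exact Finset.sum_congr rfl fun a ha => by rw [Finset.sum_ite_eq, if_pos ha]
  have htr := LinearMap.IsProj.trace (LinearMap.IsIdempotentElem.isProj_range _ hidem)
  rw [hP, map_sum, Finset.sum_congr rfl fun a _ => (isProj_sum hadd hW a).trace] at htr
  simp only [finrank_comap_inf] at htr
  have htr' : ∑ a ∈ S, finrank ℂ ↥(W ⊓ eig u a) = finrank ℂ (LinearMap.range P) := by
    exact_mod_cast htr
  rw [htr']
  have hle : Submodule.map W.subtype (LinearMap.range P) ≤ W' := by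
    rintro _ ⟨_, ⟨v, rfl⟩, rfl⟩
    show (P v : V) ∈ W'
    rw [hval]
    exact W'.sum_mem fun a ha => h a ha ⟨eigProj_mem hW a v.2, eigProj_mem_eig hadd a v⟩
  exact ((Submodule.finrank_map_subtype_eq W _).ge).trans (Submodule.finrank_mono hle)

/-- A vector whose average over a set of translates has the same length is fixed by them. -/
theorem translates_eq_of_mean {G : Type*} [Group G] [Fintype G] {k : ℕ}
    (ρ : Representation ℂ G (Fin k → ℂ)) {ι : Type*} [Fintype ι] (g : ι → G) (h : G)
    (v : Fin k → ℂ) (hmean : ∑ i, ρ (g i) v = (Fintype.card ι : ℂ) • ρ h v) (i : ι) :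
    ρ (g i) v = ρ h v := by
  classical
  have hshift : ∀ (x : G) (j : Fin k),
      ∑ a, Complex.normSq (ρ (a * x) v j) = ∑ a, Complex.normSq (ρ a v j) :=
    fun x j => Fintype.sum_equiv (Equiv.mulRight x) _ _ fun a => rfl
  have hpt : ∀ (a : G) (j : Fin k),
      ∑ i, Complex.normSq (ρ (a * g i) v j - ρ (a * h) v j) =
        ∑ i, Complex.normSq (ρ (a * g i) v j) -
          (Fintype.card ι : ℝ) * Complex.normSq (ρ (a * h) v j) := by
    intro a j
    have hs : ∑ i, ρ (a * g i) v j = (Fintype.card ι : ℂ) * ρ (a * h) v j := by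
      have := congrArg (fun w => ρ a w j) hmean
      simpa [map_sum, map_smul, map_mul, Finset.sum_apply] using this
    simp only [Complex.normSq_sub, Finset.sum_sub_distrib, Finset.sum_add_distrib,
      ← Finset.mul_sum, ← Complex.re_sum, ← Finset.sum_mul, hs]
    simp [Finset.sum_const, nsmul_eq_mul, mul_assoc, Complex.mul_conj]
    ring
  have h0 : ∑ a, ∑ j, ∑ i, Complex.normSq (ρ (a * g i) v j - ρ (a * h) v j) = 0 := by
    simp only [hpt, Finset.sum_sub_distrib, ← Finset.mul_sum]
    rw [Finset.sum_comm (f := fun a j => ∑ i, Complex.normSq (ρ (a * g i) v j)),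
      Finset.sum_comm (f := fun a j => Complex.normSq (ρ (a * h) v j))]
    simp only [hshift]
    rw [Finset.sum_congr rfl fun j _ => Finset.sum_comm, Finset.mul_sum]
    simp only [hshift, Finset.sum_const, Finset.card_univ, nsmul_eq_mul, sub_self]
  funext j
  have h1 := (Finset.sum_eq_zero_iff_of_nonneg fun a _ =>
    Finset.sum_nonneg fun j _ => Finset.sum_nonneg fun i _ => Complex.normSq_nonneg _).1 h0 1
    (Finset.mem_univ _)
  have h2 := (Finset.sum_eq_zero_iff_of_nonneg fun j _ =>
    Finset.sum_nonneg fun i _ => Complex.normSq_nonneg _).1 h1 j (Finset.mem_univ _)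
  have h3 := (Finset.sum_eq_zero_iff_of_nonneg fun i _ => Complex.normSq_nonneg _).1 h2 i
    (Finset.mem_univ _)
  rw [Complex.normSq_eq_zero, sub_eq_zero] at h3
  simpa using h3

end Cfsg.Agent.H53.G2
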