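import Cfsg.Agent.Chevalley.DataG2
import Cfsg.Agent.Chevalley.Torus
import Cfsg.Agent.S1055
import Cfsg.Agent.H53.G2.Weights

/-!
Root elements of `G₂(q)` as group elements, their relations, and their weight spaces in a
representation.

Roots: `6 = b` (long), `7 = a` (short), `8 = a+b`, `9 = 2a+b`, `10 = 3a+b`, `11 = 3a+2b`,
and `11 - r` is the opposite of `r`.
-/

set_option autoImplicit false
set_option linter.unusedSectionVars false

namespace Cfsg.Agent.H53.G2

open Module Cfsg.Agent.Symplectic Cfsg.Lie Cfsg.Agent.Chevalley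

/-- the group `G₂(F)` -/
abbrev G2Grp (F : Type*) [Field F] : Type _ := ↥(chevG2.group F)

variable {F : Type*} [Field F]

local notation "CC" => Chevalley.G2.cert

/-- root element -/
def X (r : ℕ) (t : F) : (G2Grp F) := ⟨Cert.xU CC F r t, Cert.xU_mem_group CC F r t⟩

theorem coe_X (r : ℕ) (t : F) : (X r t : GL chevG2.Idx F) = Cert.xU CC F r t := rfl

theorem X_add (r : ℕ) (t u : F) : X r t * X r u = X r (t + u) :=
  Subtype.ext (Cert.xU_add CC F r t u)

theorem X_zero (r : ℕ) : X r (0 : F) = 1 := Subtype.ext (Cert.xU_zero CC F r)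

theorem X_inv (r : ℕ) (t : F) : (X r t)⁻¹ = X r (-t) :=
  inv_eq_of_mul_eq_one_right (by rw [X_add, add_neg_cancel, X_zero])

theorem X_ne_one {r : ℕ} (hr : r < 12) {t : F} (ht : t ≠ 0) : X r t ≠ 1 := fun h =>
  ht ((Cert.xU_eq_one_iff CC F hr t).1 (congrArg Subtype.val h))

theorem coe_prod (l : List (G2Grp F)) :
    ((l.prod : (G2Grp F)) : GL chevG2.Idx F) =
      (l.map fun g : (G2Grp F) => (g : GL chevG2.Idx F)).prod :=
  map_list_prod (chevG2.group F).subtype l

/-- the commutator formula -/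
theorem comm {r s : ℕ} (L : List (ℕ × ℤ × ℕ × ℕ)) (h : chevG2.commTerms r s = L) (hr : r < 12)
    (hs : s < 12) (h1 : s ≠ r) (h2 : s + r ≠ 11) (t u : F) :
    X s u * X r t = X r t * X s u *
      (L.map fun c => X c.1 ((c.2.1 : F) * (-t) ^ c.2.2.1 * u ^ c.2.2.2)).prod := by
  refine Subtype.ext ?_
  have hn : chevG2.neg r = 11 - r := (CC).neg_eq r hr
  have e := Cert.xU_comm CC F hr hs h1 (by omega) t u
  rw [ChevalleyDatum.commWord, h] at e
  simp only [Subgroup.coe_mul, coe_X, coe_prod, List.map_map]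
  rw [e, Cert.wU, List.map_map]
  rfl

theorem commute_X {r s : ℕ} (h : chevG2.commTerms r s = []) (hr : r < 12) (hs : s < 12)
    (h1 : s ≠ r) (h2 : s + r ≠ 11) (t u : F) : X s u * X r t = X r t * X s u := by
  rw [comm [] h hr hs h1 h2, List.map_nil, List.prod_nil, mul_one]

/-- `n_r(t)` -/
def nG (r : ℕ) (t : F) : (G2Grp F) := X r t * X (11 - r) (-t⁻¹) * X r t

/-- `h_r(t)` -/
def hG (r : ℕ) (t : F) : (G2Grp F) := nG r t * nG r (-1)

theorem coe_nG {r : ℕ} (hr : r < 12) (t : F) :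
    (nG r t : GL chevG2.Idx F) = Cert.nU CC F r t := by
  rw [Cert.nU_eq, (CC).neg_eq r hr]
  rfl

theorem coe_hG {r : ℕ} (hr : r < 12) (t : F) :
    (hG r t : GL chevG2.Idx F) = Cert.hU CC F r t := by
  rw [hG, Subgroup.coe_mul, coe_nG hr, coe_nG hr, Cert.hU_eq]

theorem nG_inv (r : ℕ) (t : F) : (nG r t)⁻¹ = nG r (-t) := by
  simp [nG, mul_inv_rev, X_inv, mul_assoc, inv_neg]

theorem nG_eq (r : ℕ) (t : F) : nG r t = hG r t * nG r 1 := by
  rw [hG, ← nG_inv, inv_mul_cancel_right]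

theorem X_opp (r : ℕ) (t : F) :
    X (11 - r) t = X r t⁻¹ * nG r (-t⁻¹) * X r t⁻¹ := by
  simp only [nG, mul_assoc, inv_neg, inv_inv, neg_neg]
  rw [X_add, neg_add_cancel, X_zero, mul_one, ← mul_assoc, X_add, add_neg_cancel, X_zero, one_mul]

theorem hG_conj {r s : ℕ} (e : ℤ) (he : pairingSum chevG2 r s = e) (hr : r < 12) (hs : s < 12)
    (c : Fˣ) (t : F) : X s ((c : F) ^ e * t) * hG r (c : F) = hG r (c : F) * X s t := by
  refine Subtype.ext ?_
  simp only [Subgroup.coe_mul, coe_X, coe_hG hr]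
  have e2 := mul_inv_eq_iff_eq_mul.1 (Cert.hU_conj_xU CC F hr hs c t)
  rw [he, Units.val_zpow_eq_zpow_val] at e2
  exact e2.symm

/-- the fundamental monomial element of `a` -/
def nA : (G2Grp F) := nG 7 (1 : F)

/-- the fundamental monomial element of `b` -/
def nB : (G2Grp F) := nG 6 (1 : F)

theorem coe_nA : ((nA : (G2Grp F)) : GL chevG2.Idx F) = Cert.nS CC F 0 := by
  rw [nA, coe_nG (by decide), Cert.nS, show chevG2.simple 0 = 7 by decide +kernel]

theorem coe_nB : ((nB : (G2Grp F)) : GL chevG2.Idx F) = Cert.nS CC F 1 := by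
  rw [nB, coe_nG (by decide), Cert.nS, show chevG2.simple 1 = 6 by decide +kernel]

theorem nA_mul (r r' : ℕ) (σ : ℤ) (h : (CC).w 0 r = r' ∧ (CC).sg 0 r = σ) (hr : r < 12) (t : F) :
    X r' ((σ : F) * t) * nA = nA * X r t := by
  obtain ⟨rfl, rfl⟩ := h
  refine Subtype.ext ?_
  simp only [Subgroup.coe_mul, coe_X, coe_nA]
  exact (Cert.nS_mul_xU CC F (by decide +kernel) hr t).symm

theorem nB_mul (r r' : ℕ) (σ : ℤ) (h : (CC).w 1 r = r' ∧ (CC).sg 1 r = σ) (hr : r < 12) (t : F) :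
    X r' ((σ : F) * t) * nB = nB * X r t := by
  obtain ⟨rfl, rfl⟩ := h
  refine Subtype.ext ?_
  simp only [Subgroup.coe_mul, coe_X, coe_nB]
  exact (Cert.nS_mul_xU CC F (by decide +kernel) hr t).symm

theorem nG_ten (τ : F) : nG 10 τ = nA * nG 6 τ * nA⁻¹ := by
  refine Subtype.ext ?_
  simp only [Subgroup.coe_mul, Subgroup.coe_inv, coe_nA, coe_nG (show (6 : ℕ) < 12 by decide),
    coe_nG (show (10 : ℕ) < 12 by decide)]
  rw [Cert.nS_conj_nU CC F (by decide +kernel) (by decide +kernel),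
    show (CC).w 0 6 = 10 by decide +kernel, show (CC).sg 0 6 = 1 by decide +kernel, Int.cast_one,
    one_mul]

theorem coe_hG_torus {r : ℕ} (hr : r < 12) (c : Fˣ) :
    (hG r (c : F) : GL chevG2.Idx F) = torus chevG2 F fun m => c ^ cor chevG2 r m := by
  rw [coe_hG hr]
  exact Cert.hU_eq_torus CC F hr c

theorem hG_eight (c : Fˣ) : hG 8 (c : F) = hG 7 (c : F) * hG 6 (c : F) ^ 3 := by
  refine Subtype.ext ?_
  simp only [Subgroup.coe_mul, Subgroup.coe_pow, coe_hG_torus (show (8 : ℕ) < 12 by decide),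
    coe_hG_torus (show (7 : ℕ) < 12 by decide), coe_hG_torus (show (6 : ℕ) < 12 by decide),
    ← map_pow, ← map_mul]
  congr 1
  funext m
  simp only [Pi.mul_apply, Pi.pow_apply]
  rw [← zpow_natCast (c ^ _), ← zpow_mul, ← zpow_add]
  congr 1
  revert m
  decide +kernel

theorem hG_five (c : Fˣ) : hG 5 (c : F) * hG 6 (c : F) = 1 := by
  refine Subtype.ext ?_
  simp only [Subgroup.coe_mul, coe_hG_torus (show (5 : ℕ) < 12 by decide),
    coe_hG_torus (show (6 : ℕ) < 12 by decide), ← map_mul, Subgroup.coe_one]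
  rw [← map_one (torus chevG2 F)]
  congr 1
  funext m
  simp only [Pi.mul_apply, Pi.one_apply, ← zpow_add]
  rw [show cor chevG2 5 m + cor chevG2 6 m = 0 by revert m; decide +kernel, zpow_zero]

theorem nB_hG {r r' : ℕ} (h : (CC).w 1 r = r') (hr : r < 12) (hr' : r' < 12) (c : Fˣ) :
    hG r' (c : F) * nB = nB * hG r (c : F) := by
  subst h
  refine Subtype.ext ?_
  simp only [Subgroup.coe_mul, coe_nB, coe_hG hr, coe_hG hr']
  exact (mul_inv_eq_iff_eq_mul.1 (Cert.nS_conj_hU CC F (by decide +kernel) hr c)).symm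

section Rep

variable [Fintype F] {V : Type*} [AddCommGroup V] [Module ℂ V] [FiniteDimensional ℂ V]
  (ρ : Representation ℂ (G2Grp F) V)

/-- vectors on which each listed root subgroup acts by the listed character -/
def Wt (L : List (ℕ × F)) : Submodule ℂ V where
  carrier := {v | ∀ p ∈ L, ∀ t, ρ (X p.1 t) v = eChar F (p.2 * t) • v}
  add_mem' {v w} hv hw p hp t := by rw [map_add, hv p hp t, hw p hp t, smul_add]
  zero_mem' p _ t := by simp
  smul_mem' c v hv p hp t := by rw [map_smul, hv p hp t, smul_comm]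

theorem mem_Wt {L : List (ℕ × F)} {v : V} :
    v ∈ Wt ρ L ↔ ∀ p ∈ L, ∀ t, ρ (X p.1 t) v = eChar F (p.2 * t) • v := Iff.rfl

theorem mem_Wt_nil (v : V) : v ∈ Wt ρ [] := fun p hp => by simp at hp

theorem mem_Wt_cons {r : ℕ} {a : F} {L : List (ℕ × F)} {v : V} :
    v ∈ Wt ρ ((r, a) :: L) ↔
      (∀ t, ρ (X r t) v = eChar F (a * t) • v) ∧ v ∈ Wt ρ L := by
  simp [mem_Wt]

theorem Wt_mono {L L' : List (ℕ × F)} (h : ∀ p ∈ L', p ∈ L) : Wt ρ L ≤ Wt ρ L' :=
  fun _ hv p hp => hv p (h p hp)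

theorem Wt_congr {L L' : List (ℕ × F)} (h : ∀ p, p ∈ L ↔ p ∈ L') : Wt ρ L = Wt ρ L' :=
  le_antisymm (Wt_mono ρ fun p hp => (h p).2 hp) (Wt_mono ρ fun p hp => (h p).1 hp)

theorem Wt_eq_inf (r : ℕ) (a : F) (L : List (ℕ × F)) :
    Wt ρ ((r, a) :: L) = Wt ρ L ⊓ eig (fun t => ρ (X r t)) a := by
  ext v
  rw [mem_Wt_cons, Submodule.mem_inf, mem_eig]
  tauto

theorem finrank_Wt_cons (r : ℕ) (a : F) (L : List (ℕ × F)) :
    finrank ℂ (Wt ρ ((r, a) :: L)) = finrank ℂ ↥(Wt ρ L ⊓ eig (fun t => ρ (X r t)) a) := by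
  rw [Wt_eq_inf]

theorem fam_add (r : ℕ) (s t : F) :
    ρ (X r (s + t)) = ρ (X r s) * ρ (X r t) := by rw [← map_mul, X_add]

theorem fam_zero (r : ℕ) : ρ (X r (0 : F)) = 1 := by rw [X_zero, map_one]

/-- splitting a weight space along a root subgroup preserving it -/
theorem split (r : ℕ) (L : List (ℕ × F)) (h : ∀ t, ∀ v ∈ Wt ρ L, ρ (X r t) v ∈ Wt ρ L) :
    finrank ℂ (Wt ρ L) = ∑ a, finrank ℂ (Wt ρ ((r, a) :: L)) := by
  simp only [finrank_Wt_cons]
  exact finrank_split (fam_zero ρ r) (fam_add ρ r) h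

theorem sum_le (r : ℕ) (L L' : List (ℕ × F)) (h : ∀ t, ∀ v ∈ Wt ρ L, ρ (X r t) v ∈ Wt ρ L)
    (S : Finset F) (hS : ∀ a ∈ S, Wt ρ ((r, a) :: L) ≤ Wt ρ L') :
    ∑ a ∈ S, finrank ℂ (Wt ρ ((r, a) :: L)) ≤ finrank ℂ (Wt ρ L') := by
  simp only [Wt_eq_inf] at hS
  simp only [finrank_Wt_cons]
  exact sum_finrank_le (fam_add ρ r) h S hS

theorem rho_mul_apply (g h : (G2Grp F)) (v : V) : ρ (g * h) v = ρ g (ρ h v) := by
  rw [map_mul]; rfl

theorem rho_inv_apply (g : (G2Grp F)) (v : V) : ρ g⁻¹ (ρ g v) = v := by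
  rw [← rho_mul_apply, inv_mul_cancel, map_one]; rfl

theorem rho_apply_inv (g : (G2Grp F)) (v : V) : ρ g (ρ g⁻¹ v) = v := by
  rw [← rho_mul_apply, mul_inv_cancel, map_one]; rfl

/-- transporting an eigen condition -/
theorem move {g x y : (G2Grp F)} (h : x * g = g * y) {v : V} {c : ℂ} (hy : ρ y v = c • v) :
    ρ x (ρ g v) = c • ρ g v := by
  rw [← rho_mul_apply, h, rho_mul_apply, hy, map_smul]

theorem preserves_of_commute (r : ℕ) (L : List (ℕ × F))
    (h : ∀ p ∈ L, ∀ s t : F, X p.1 s * X r t = X r t * X p.1 s) :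
    ∀ t, ∀ v ∈ Wt ρ L, ρ (X r t) v ∈ Wt ρ L :=
  fun t _ hv p hp s => move ρ (h p hp s t) (hv p hp s)

/-- a group element moving root subgroups to root subgroups moves weight spaces -/
theorem mem_map_iff (g : (G2Grp F)) (f : ℕ × F → ℕ × F) (L : List (ℕ × F))
    (hf : ∀ p ∈ L, ∃ c : F, c ≠ 0 ∧ p.2 = (f p).2 * c ∧
      ∀ t, X (f p).1 (c * t) * g = g * X p.1 t) (v : V) :
    ρ g v ∈ Wt ρ (L.map f) ↔ v ∈ Wt ρ L := by
  simp only [mem_Wt, List.forall_mem_map]
  refine forall₂_congr fun p hp => ?_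
  obtain ⟨c, hc, he, hx⟩ := hf p hp
  constructor
  · intro h t
    have h1 := h (c * t)
    rw [← rho_mul_apply, hx, rho_mul_apply, ← mul_assoc, ← he, ← map_smul] at h1
    have h2 := congrArg (ρ g⁻¹) h1
    rwa [rho_inv_apply, rho_inv_apply] at h2
  · intro h s
    have h1 := move ρ (hx (c⁻¹ * s)) (h (c⁻¹ * s))
    rwa [← mul_assoc, mul_inv_cancel₀ hc, one_mul, he, mul_assoc, ← mul_assoc c,
      mul_inv_cancel₀ hc, one_mul] at h1

theorem finrank_le_of_maps (g : (G2Grp F)) {W W' : Submodule ℂ V} (h : ∀ v ∈ W, ρ g v ∈ W') :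
    finrank ℂ W ≤ finrank ℂ W' := by
  refine LinearMap.finrank_le_finrank_of_injective (f := (ρ g).restrict h) fun v w e => ?_
  have := congrArg (fun x : W' => ρ g⁻¹ (x : V)) e
  simp only [LinearMap.restrict_apply, rho_inv_apply] at this
  exact Subtype.ext this

theorem finrank_map_eq (g : (G2Grp F)) (f : ℕ × F → ℕ × F) (L : List (ℕ × F))
    (hf : ∀ p ∈ L, ∃ c : F, c ≠ 0 ∧ p.2 = (f p).2 * c ∧
      ∀ t, X (f p).1 (c * t) * g = g * X p.1 t) :
    finrank ℂ (Wt ρ (L.map f)) = finrank ℂ (Wt ρ L) := by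
  refine le_antisymm (finrank_le_of_maps ρ g⁻¹ fun v hv => ?_)
    (finrank_le_of_maps ρ g fun v hv => (mem_map_iff ρ g f L hf v).2 hv)
  rw [← mem_map_iff ρ g f L hf, rho_apply_inv]
  exact hv

/-- a vector fixed by the fundamental root subgroups and their opposites is fixed by the group -/
theorem fixed_all {v : V} (h4 : ∀ t, ρ (X 4 t) v = v) (h5 : ∀ t, ρ (X 5 t) v = v)
    (h6 : ∀ t, ρ (X 6 t) v = v) (h7 : ∀ t, ρ (X 7 t) v = v) (g : (G2Grp F)) : ρ g v = v := by
  have hA : ρ nA v = v := by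
    rw [nA, nG, rho_mul_apply, rho_mul_apply, h7, h4, h7]
  have hB : ρ nB v = v := by
    rw [nB, nG, rho_mul_apply, rho_mul_apply, h6, h5, h6]
  have key : ∀ r < chevG2.nroots, ∀ t : F, ρ (X r t) v = v := by
    refine Cert.root_induction CC (fun i hi t => ?_) ?_
    · match i, hi with
      | 0, _ => rw [show chevG2.simple 0 = 7 by decide +kernel]; exact h7 t
      | 1, _ => rw [show chevG2.simple 1 = 6 by decide +kernel]; exact h6 t
      | j + 2, hj => exact absurd hj (by show ¬ (j + 2 < 2); omega)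
    · intro i hi r hr ih t
      have hsg : ((CC).sg i r : F) * ((CC).sg i r : F) = 1 := by
        rcases (CC).sg_pm i r with h | h <;> simp [h]
      match i, hi with
      | 0, _ =>
        have := congrArg (fun x : (G2Grp F) => ρ x v)
          (nA_mul r _ _ ⟨rfl, rfl⟩ hr (((CC).sg 0 r : F) * t))
        simpa [← mul_assoc, hsg, rho_mul_apply, hA, ih] using this
      | 1, _ =>
        have := congrArg (fun x : (G2Grp F) => ρ x v)
          (nB_mul r _ _ ⟨rfl, rfl⟩ hr (((CC).sg 1 r : F) * t))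
        simpa [← mul_assoc, hsg, rho_mul_apply, hB, ih] using this
      | j + 2, hj => exact absurd hj (by show ¬ (j + 2 < 2); omega)
  let H : Subgroup (G2Grp F) :=
    { carrier := {g | ρ g v = v}
      mul_mem' := fun {a b} ha hb => by
        rw [Set.mem_ofPred_eq, rho_mul_apply, hb, ha]
      one_mem' := by simp
      inv_mem' := fun {a} ha => by
        have := rho_inv_apply ρ a v
        rwa [show ρ a v = v from ha] at this }
  have hle : chevG2.group F ≤ H.map (chevG2.group F).subtype := by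
    conv_lhs => rw [Cert.group_eq CC]
    rw [Subgroup.closure_le]
    rintro _ ⟨r, t, hr, rfl⟩
    exact ⟨X r t, key r hr t, rfl⟩
  obtain ⟨g', hg', e⟩ := hle g.2
  rwa [Subtype.ext e] at hg'

theorem eq_zero_of_fixed [ρ.IsIrreducible] (hV : 2 ≤ finrank ℂ V) {v : V}
    (h : ∀ g, ρ g v = v) : v = 0 := by
  by_contra hv
  let W : Subrepresentation ρ :=
    { toSubmodule := Submodule.span ℂ {v}
      apply_mem_toSubmodule := fun g w hw => by
        obtain ⟨c, rfl⟩ := Submodule.mem_span_singleton.1 hw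
        rw [map_smul, h g]
        exact Submodule.smul_mem _ _ (Submodule.mem_span_singleton_self v) }
  rcases eq_bot_or_eq_top W with e | e
  · exact hv (by
      have : v ∈ W.toSubmodule := Submodule.mem_span_singleton_self v
      rw [e] at this
      exact (Submodule.mem_bot ℂ).1 this)
  · have h1 : finrank ℂ ↥(W.toSubmodule) = 1 := finrank_span_singleton hv
    rw [e] at h1
    have h2 : finrank ℂ (⊤ : Submodule ℂ V) = 1 := h1
    rw [finrank_top] at h2
    omega

/-- a non-trivial root element acts non-trivially -/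
theorem exists_moved [ρ.IsIrreducible] (hV : 2 ≤ finrank ℂ V) (hF : 3 ≤ Fintype.card F) {r : ℕ}
    (hr : r < 12) : ∃ t v, ρ (X r t) v ≠ v := by
  by_contra h
  push Not at h
  have hex : ∃ a : F, a ≠ 0 ∧ a ≠ 1 := by
    classical
    obtain ⟨a, ha⟩ : ((Finset.univ.erase (0 : F)).erase 1).Nonempty := by
      rw [← Finset.card_pos, Finset.card_erase_of_mem (by simp),
        Finset.card_erase_of_mem (Finset.mem_univ _), Finset.card_univ]
      omega
    simp only [Finset.mem_erase] at ha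
    exact ⟨a, ha.2.1, ha.1⟩
  have := (Cfsg.Agent.S1055.result hex).1
  have htop : MonoidHom.ker ρ = ⊤ :=
    ((inferInstance : (MonoidHom.ker ρ).Normal).eq_bot_or_eq_top).resolve_left fun e =>
      X_ne_one hr one_ne_zero (Subgroup.mem_bot.1 (e ▸ (MonoidHom.mem_ker.2
        (LinearMap.ext fun v => h 1 v)) : X r (1 : F) ∈ (⊥ : Subgroup (G2Grp F))))
  have : Nontrivial V := Module.nontrivial_of_finrank_pos (R := ℂ) (by omega)
  obtain ⟨v, hv⟩ := exists_ne (0 : V)
  exact hv (eq_zero_of_fixed ρ hV fun g => by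
    rw [MonoidHom.mem_ker.1 (htop ▸ Subgroup.mem_top g)]; rfl)

end Rep

end Cfsg.Agent.H53.G2
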