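import Mathlib

/-!
Functions on binary cubic forms invariant under substitutions: the support is large, and a support of
size at most `q²` consists of multiples of cubes.
-/

set_option autoImplicit false
set_option linter.unusedSectionVars false

namespace Cfsg.Agent.H53.G2

variable {F : Type*} [Field F] [Fintype F] [DecidableEq F]

/-- invariance of a function of the four coefficients -/
structure CubicInv (d : F → F → F → F → ℕ) : Prop where
  hT : ∀ a B C D t : F,
    d a (B + 3 * t * a) (C + 2 * t * B + 3 * t ^ 2 * a) (D + t * C + t ^ 2 * B + t ^ 3 * a) =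
      d a B C D
  hS : ∀ a B C D c : F, c ≠ 0 → d (c * a) (c * B) (c * C) (c * D) = d a B C D
  hM : ∀ a B C D c : F, c ≠ 0 → d (c ^ 3 * a) (c ^ 2 * B) (c * C) D = d a B C D
  hN : ∀ a B C D : F, d (-D) C (-B) a = d a B C D

/-- multiples of cubes -/
def IsCube (x : F × F × F × F) : Prop :=
  if x.1 = 0 then x.2.1 = 0 ∧ x.2.2.1 = 0
  else 3 * x.1 * x.2.2.1 = x.2.1 ^ 2 ∧ 27 * x.1 ^ 2 * x.2.2.2 = x.2.1 ^ 3

variable {d : F → F → F → F → ℕ}

/-- the function on quadruples -/
def uc (d : F → F → F → F → ℕ) (x : F × F × F × F) : ℕ := d x.1 x.2.1 x.2.2.1 x.2.2.2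

theorem card_units_add : Fintype.card Fˣ + 1 = (Fintype.card F) := by
  rw [Fintype.card_units, Nat.sub_add_cancel Fintype.card_pos]

theorem le_sum (S : Finset (F × F × F × F)) (h : ∀ x ∈ S, x ≠ 0 ∧ 0 < uc d x) :
    S.card + uc d 0 ≤ ∑ x, uc d x := by
  refine le_trans ?_ (Finset.sum_le_sum_of_subset (Finset.subset_univ (insert 0 S)))
  rw [Finset.sum_insert fun h0 => (h 0 h0).1 rfl, add_comm]
  gcongr
  rw [Finset.card_eq_sum_ones]
  exact Finset.sum_le_sum fun x hx => (h x hx).2

/-- the image of an injective parametrisation -/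
theorem exists_set {ι : Type*} [Fintype ι] {n : ℕ} (f : ι → F × F × F × F)
    (hf : Function.Injective f) (hn : n ≤ Fintype.card ι) (Q : F × F × F × F → Prop)
    (h : ∀ i, Q (f i)) : ∃ S : Finset (F × F × F × F), n ≤ S.card ∧ ∀ x ∈ S, Q x := by
  refine ⟨Finset.univ.image f, ?_, fun x hx => ?_⟩
  · rw [Finset.card_image_of_injective _ hf, Finset.card_univ]; exact hn
  · obtain ⟨i, -, rfl⟩ := Finset.mem_image.1 hx
    exact h i

theorem exists_pow_ne (hq : 5 ≤ (Fintype.card F)) {n : ℕ} (hn : 0 < n) (hn3 : n ≤ 3) :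
    ∃ s : F, s ≠ 0 ∧ s ^ n ≠ 1 := by
  by_contra h
  push Not at h
  have hne : (Polynomial.X ^ n - Polynomial.C (1 : F)) ≠ 0 := Polynomial.X_pow_sub_C_ne_zero hn 1
  have hle : (Finset.univ.erase (0 : F)).card ≤ n := by
    refine le_trans (Finset.card_le_card (t := (Polynomial.X ^ n - Polynomial.C (1 : F)).roots.toFinset)
      fun s hs => ?_) ((Multiset.toFinset_card_le _).trans ((Polynomial.card_roots' _).trans
        (Polynomial.natDegree_X_pow_sub_C (n := n)).le))
    rw [Multiset.mem_toFinset, Polynomial.mem_roots hne]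
    simp [h s (Finset.ne_of_mem_erase hs)]
  rw [Finset.card_erase_of_mem (Finset.mem_univ _), Finset.card_univ] at hle
  omega

theorem isCube_T {a B C D t : F} (ha : a ≠ 0)
    (h : IsCube (a, B + 3 * t * a, C + 2 * t * B + 3 * t ^ 2 * a,
      D + t * C + t ^ 2 * B + t ^ 3 * a)) : IsCube (a, B, C, D) := by
  simp only [IsCube, if_neg ha] at h ⊢
  obtain ⟨h1, h2⟩ := h
  constructor
  · linear_combination h1
  · linear_combination h2 - 9 * a * t * h1

theorem isCube_smul {a B C D c : F} (hc : c ≠ 0) (ha : a ≠ 0)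
    (h : IsCube (c * a, c * B, c * C, c * D)) : IsCube (a, B, C, D) := by
  simp only [IsCube, if_neg ha, if_neg (mul_ne_zero hc ha)] at h ⊢
  obtain ⟨h1, h2⟩ := h
  constructor
  · exact mul_left_cancel₀ (pow_ne_zero 2 hc) (by linear_combination h1)
  · exact mul_left_cancel₀ (pow_ne_zero 3 hc) (by linear_combination h2)

variable (hd : CubicInv d) (h3 : (3 : F) ≠ 0) (hq : 5 ≤ (Fintype.card F))
include hd h3 hq

theorem extra {a B C D : F} (hx : 0 < d a B C D) (hK : ¬ IsCube (a, B, C, D)) :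
    ∃ S : Finset (F × F × F × F), (Fintype.card F) * ((Fintype.card F) - 1) ≤ S.card ∧
      ∀ x ∈ S, x ≠ 0 ∧ 0 < uc d x ∧ ¬ IsCube x ∧ (x.1 = 0 ↔ a = 0) := by
  have hcard : Fintype.card (Fˣ × F) = (Fintype.card F) * ((Fintype.card F) - 1) := by
    rw [Fintype.card_prod, Fintype.card_units, mul_comm]
  rcases eq_or_ne a 0 with rfl | ha
  · have hBC : ¬ (B = 0 ∧ C = 0) := fun h => hK (by simpa [IsCube] using h)
    have hgood : ∀ (s t B' C' D' : F), s ≠ 0 → B' = s * B → C' = s * (C + 2 * t * B) →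
        D' = s * (D + t * C + t ^ 2 * B) → (((0 : F), B', C', D') : F × F × F × F) ≠ 0 ∧
          0 < uc d (0, B', C', D') ∧ ¬ IsCube ((0 : F), B', C', D') ∧
          (((0 : F), B', C', D').1 = 0 ↔ (0 : F) = 0) := by
      intro s t B' C' D' hs hB' hC' hD'
      have hne : ¬ (B' = 0 ∧ C' = 0) := by
        rintro ⟨e1, e2⟩
        rw [hB', mul_eq_zero, or_iff_right hs] at e1
        rw [hC', mul_eq_zero, or_iff_right hs, e1, mul_zero, add_zero] at e2
        exact hBC ⟨e1, e2⟩
      refine ⟨fun e => ?_, ?_, fun e => hne (by simpa [IsCube] using e), Iff.rfl⟩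
      · simp only [Prod.ext_iff, Prod.fst_zero, Prod.snd_zero] at e
        exact hne ⟨e.2.1, e.2.2.1⟩
      · show 0 < d 0 B' C' D'
        have e1 := hd.hT 0 B C D t
        simp only [mul_zero, add_zero] at e1
        have e2 := hd.hS 0 B (C + 2 * t * B) (D + t * C + t ^ 2 * B) s hs
        rw [mul_zero, ← hB', ← hC', ← hD', e1] at e2
        rw [e2]; exact hx
    rcases eq_or_ne B 0 with rfl | hB
    · have hC : C ≠ 0 := fun h => hBC ⟨rfl, h⟩
      refine exists_set (fun i : Fˣ × F => ((0 : F), (0 : F), (i.1 : F) * C, (i.1 : F) * (D + i.2 * C)))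
        ?_ hcard.ge _ fun i =>
          hgood i.1 i.2 _ _ _ i.1.ne_zero (by ring) (by ring) (by ring)
      rintro ⟨s, t⟩ ⟨s', t'⟩ h
      simp only [Prod.mk.injEq, true_and] at h
      obtain rfl : s = s' := Units.ext (mul_right_cancel₀ hC h.1)
      have := mul_right_cancel₀ hC (add_left_cancel (mul_left_cancel₀ s.ne_zero h.2))
      rw [this]
    · rcases eq_or_ne (2 : F) 0 with h2 | h2
      · rcases eq_or_ne C 0 with rfl | hC
        · refine exists_set (fun i : Fˣ × F =>
              ((0 : F), (i.1 : F) * B, (0 : F), (i.1 : F) * (D + i.2 ^ 2 * B)))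
            ?_ hcard.ge _ fun i =>
              hgood i.1 i.2 _ _ _ i.1.ne_zero rfl (by rw [h2]; ring) (by ring)
          rintro ⟨s, t⟩ ⟨s', t'⟩ h
          simp only [Prod.mk.injEq, true_and] at h
          obtain rfl : s = s' := Units.ext (mul_right_cancel₀ hB h.1)
          have e := mul_right_cancel₀ hB (add_left_cancel (mul_left_cancel₀ s.ne_zero h.2))
          have : (t - t') ^ 2 = 0 := by linear_combination e + (t' ^ 2 - t * t') * h2
          rw [sub_eq_zero.1 (pow_eq_zero_iff (two_ne_zero (α := ℕ)) |>.1 this)]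
        · obtain ⟨t0, ht0⟩ : ∃ t : F, t * C + t ^ 2 * B ≠ 0 := by
            obtain ⟨t, ht⟩ : ((Finset.univ.erase (0 : F)).erase (-C / B)).Nonempty := by
              rw [← Finset.card_pos]
              have := Finset.pred_card_le_card_erase (a := -C / B) (s := Finset.univ.erase (0 : F))
              rw [Finset.card_erase_of_mem (Finset.mem_univ _), Finset.card_univ] at this
              omega
            simp only [Finset.mem_erase] at ht
            refine ⟨t, fun h => ht.1 ?_⟩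
            have h' : t * (C + t * B) = 0 := by linear_combination h
            rw [mul_eq_zero, or_iff_right ht.2.1] at h'
            rw [eq_div_iff hB]
            linear_combination h'
          have key : ∀ i : Fˣ × Fˣ × Bool, 0 < d 0 ((i.1 : F) * (i.2.1 : F) ^ 2 * B)
              ((i.1 : F) * i.2.1 * C) ((i.1 : F) * (D + (if i.2.2 then t0 * C + t0 ^ 2 * B else 0))) := by
            intro i
            have e1 := hd.hT 0 B C D (if i.2.2 then t0 else 0)
            have e2 := hd.hS 0 B C (D + (if i.2.2 then t0 * C + t0 ^ 2 * B else 0)) i.1 i.1.ne_zero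
            have e3 := hd.hM 0 ((i.1 : F) * B) ((i.1 : F) * C)
              ((i.1 : F) * (D + (if i.2.2 then t0 * C + t0 ^ 2 * B else 0))) i.2.1 i.2.1.ne_zero
            rw [mul_zero] at e2 e3
            rw [show (i.1 : F) * (i.2.1 : F) ^ 2 * B = (i.2.1 : F) ^ 2 * (i.1 * B) by ring,
              show (i.1 : F) * i.2.1 * C = (i.2.1 : F) * (i.1 * C) by ring, e3, e2]
            revert e1
            cases i.2.2 <;> intro e1 <;>
              simp only [Bool.false_eq_true, if_false, if_true, h2, mul_zero, zero_mul, add_zero,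
                add_assoc] at e1 ⊢
            · exact hx
            · rw [e1]; exact hx
          refine exists_set (fun i : Fˣ × Fˣ × Bool => ((0 : F), (i.1 : F) * (i.2.1 : F) ^ 2 * B,
              (i.1 : F) * i.2.1 * C, (i.1 : F) * (D + (if i.2.2 then t0 * C + t0 ^ 2 * B else 0))))
            ?_ ?_ _ fun i => ⟨?_, key i, ?_, Iff.rfl⟩
          · rintro ⟨s, u, b⟩ ⟨s', u', b'⟩ h
            simp only [Prod.mk.injEq, true_and] at h
            obtain ⟨h1, h2', h3'⟩ := h
            have hu : (u : F) = u' := by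
              refine mul_left_cancel₀ (mul_ne_zero (mul_ne_zero (mul_ne_zero hB hC) s'.ne_zero)
                u'.ne_zero) ?_
              calc B * C * s' * u' * u = u * B * ((s' : F) * u' * C) := by ring
                _ = C * ((s : F) * (u : F) ^ 2 * B) := by rw [← h2']; ring
                _ = B * C * s' * u' * u' := by rw [h1]; ring
            obtain rfl : u = u' := Units.ext hu
            obtain rfl : s = s' := Units.ext (mul_right_cancel₀ (mul_ne_zero u.ne_zero hC)
              (by rw [← mul_assoc, ← mul_assoc]; exact h2'))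
            have hb := add_left_cancel (mul_left_cancel₀ s.ne_zero h3')
            cases b <;> cases b' <;> simp [ht0, eq_comm (a := (0 : F))] at hb ⊢
          · rw [Fintype.card_prod, Fintype.card_prod, Fintype.card_units, Fintype.card_bool]
            calc (Fintype.card F) * ((Fintype.card F) - 1) ≤ ((Fintype.card F) - 1) * 2 * ((Fintype.card F) - 1) :=
                  Nat.mul_le_mul_right _ (by omega)
              _ = _ := by ring
          · intro e
            simp only [Prod.ext_iff, Prod.fst_zero, Prod.snd_zero] at e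
            simp [i.1.ne_zero, i.2.1.ne_zero, hC] at e
          · simp [IsCube, hB]
      · refine exists_set (fun i : Fˣ × F => ((0 : F), (i.1 : F) * B, (i.1 : F) * (C + 2 * i.2 * B),
            (i.1 : F) * (D + i.2 * C + i.2 ^ 2 * B)))
          ?_ hcard.ge _ fun i => hgood i.1 i.2 _ _ _ i.1.ne_zero rfl rfl rfl
        rintro ⟨s, t⟩ ⟨s', t'⟩ h
        simp only [Prod.mk.injEq, true_and] at h
        obtain rfl : s = s' := Units.ext (mul_right_cancel₀ hB h.1)
        have e := mul_right_cancel₀ hB (add_left_cancel (mul_left_cancel₀ s.ne_zero h.2.1))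
        rw [mul_left_cancel₀ h2 e]
  · refine exists_set (fun i : Fˣ × F => ((i.1 : F) * a, (i.1 : F) * (B + 3 * i.2 * a),
        (i.1 : F) * (C + 2 * i.2 * B + 3 * i.2 ^ 2 * a),
        (i.1 : F) * (D + i.2 * C + i.2 ^ 2 * B + i.2 ^ 3 * a))) ?_ hcard.ge _ fun i =>
      ⟨fun e => mul_ne_zero i.1.ne_zero ha (congrArg Prod.fst e), ?_,
        fun e => hK (isCube_T ha (isCube_smul i.1.ne_zero ha e)), by simp [ha, i.1.ne_zero]⟩
    · rintro ⟨s, t⟩ ⟨s', t'⟩ h
      simp only [Prod.mk.injEq] at h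
      obtain rfl : s = s' := Units.ext (mul_right_cancel₀ ha h.1)
      have e := add_left_cancel (mul_left_cancel₀ s.ne_zero h.2.1)
      rw [mul_left_cancel₀ h3 (mul_right_cancel₀ ha e)]
    · show 0 < d _ _ _ _
      rw [hd.hS _ _ _ _ _ i.1.ne_zero, hd.hT]
      exact hx

theorem cube_value {x : F × F × F × F} (hx : IsCube x) (h0 : x ≠ 0) : uc d x = d 0 0 0 1 := by
  obtain ⟨a, B, C, D⟩ := x
  have hpure : ∀ D : F, D ≠ 0 → d 0 0 0 D = d 0 0 0 1 := fun D hD => by
    simpa using hd.hS 0 0 0 1 D hD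
  rcases eq_or_ne a 0 with rfl | ha
  · simp only [IsCube, if_pos] at hx
    obtain ⟨rfl, rfl⟩ := hx
    exact hpure D fun h => h0 (by rw [h]; rfl)
  · simp only [IsCube, if_neg ha] at hx
    obtain ⟨h1, h2⟩ := hx
    show d a B C D = _
    have e := hd.hT a B C D (-(B / (3 * a)))
    have hB' : B + 3 * -(B / (3 * a)) * a = 0 := by field_simp; ring
    have h3a : (3 : F) * a ≠ 0 := mul_ne_zero h3 ha
    have hC' : C + 2 * -(B / (3 * a)) * B + 3 * (-(B / (3 * a))) ^ 2 * a = 0 := by
      refine mul_left_cancel₀ h3a ?_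
      field_simp
      linear_combination h1
    have hD' : D + -(B / (3 * a)) * C + (-(B / (3 * a))) ^ 2 * B + (-(B / (3 * a))) ^ 3 * a = 0 := by
      have h27 : (27 : F) * a ^ 2 ≠ 0 := by
        rw [show (27 : F) = 3 ^ 3 by norm_num]
        exact mul_ne_zero (pow_ne_zero 3 h3) (pow_ne_zero 2 ha)
      have ht : 3 * a * -(B / (3 * a)) = -B := by field_simp
      generalize -(B / (3 * a)) = t at ht ⊢
      refine mul_left_cancel₀ h27 ?_
      linear_combination h2 - 3 * B * h1 +
        (9 * a * C + 3 * B * (3 * a * t - B) + (3 * a * t) ^ 2 - 3 * a * t * B + B ^ 2) * ht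
    rw [hB', hC', hD'] at e
    rw [← e, ← hd.hN a 0 0 0, neg_zero]
    exact hpure a ha

omit hd hq in
/-- a parametrisation of the non-zero multiples of cubes -/
theorem cube_set : ∃ S : Finset (F × F × F × F), (Fintype.card F) ^ 2 - 1 ≤ S.card ∧
    ∀ x ∈ S, x ≠ 0 ∧ IsCube x := by
  refine exists_set (fun i : Fˣ ⊕ (Fˣ × F) => Sum.elim (fun D : Fˣ => ((0 : F), (0 : F), (0 : F), (D : F)))
    (fun p : Fˣ × F => ((p.1 : F), 3 * p.2 * p.1, 3 * p.2 ^ 2 * p.1, p.2 ^ 3 * p.1)) i) ?_ ?_ _ fun i => ?_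
  · rintro (D | ⟨s, t⟩) (D' | ⟨s', t'⟩) h <;> simp only [Sum.elim_inl, Sum.elim_inr, Prod.mk.injEq] at h
    · rw [Units.ext h.2.2.2]
    · exact absurd h.1 s'.ne_zero.symm
    · exact absurd h.1 s.ne_zero
    · obtain rfl := Units.ext h.1
      rw [mul_left_cancel₀ h3 (mul_right_cancel₀ s.ne_zero h.2.1)]
  · rw [Fintype.card_sum, Fintype.card_prod, Fintype.card_units, pow_two]
    have h1 : 1 ≤ (Fintype.card F) := Fintype.card_pos
    zify [h1, Nat.one_le_iff_ne_zero.2 (Nat.mul_ne_zero (by omega : (Fintype.card F) ≠ 0) (by omega : (Fintype.card F) ≠ 0))]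
    linarith [show (((Fintype.card F) : ℤ) * (Fintype.card F) - 1) = (((Fintype.card F) : ℤ) - 1) + (((Fintype.card F) : ℤ) - 1) * (Fintype.card F) by ring]
  · rcases i with D | ⟨s, t⟩
    · refine ⟨fun e => D.ne_zero (congrArg (fun x : F × F × F × F => x.2.2.2) e), ?_⟩
      simp [IsCube]
    · refine ⟨fun e => s.ne_zero (congrArg Prod.fst e), ?_⟩
      show IsCube ((s : F), 3 * t * s, 3 * t ^ 2 * s, t ^ 3 * s)
      unfold IsCube
      rw [if_neg (show ¬ ((s : F), 3 * t * s, 3 * t ^ 2 * s, t ^ 3 * s).1 = 0 from s.ne_zero)]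
      constructor <;> ring

/-- the dichotomy for the support -/
theorem support_cases (hne : ∃ x : F × F × F × F, x ≠ 0 ∧ 0 < uc d x) :
    (0 < d 0 0 0 1) ∨ 2 * ((Fintype.card F) * ((Fintype.card F) - 1)) + uc d 0 ≤ ∑ x, uc d x := by
  rcases Nat.eq_zero_or_pos (d 0 0 0 1) with hz | hz
  swap
  · exact Or.inl hz
  refine Or.inr ?_
  have hnc : ∀ x, x ≠ 0 → 0 < uc d x → ¬ IsCube x := fun x h1 h2 h3' => by
    rw [cube_value hd h3 hq h3' h1, hz] at h2; omega
  obtain ⟨a, B, C, D, ha, hx⟩ : ∃ a B C D : F, a ≠ 0 ∧ 0 < d a B C D := by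
    obtain ⟨⟨a, B, C, D⟩, h1, h2⟩ := hne
    rcases ne_or_eq a 0 with ha | rfl
    · exact ⟨a, B, C, D, ha, h2⟩
    rcases ne_or_eq D 0 with hD | rfl
    · exact ⟨-D, C, -B, 0, neg_ne_zero.2 hD, by rw [hd.hN]; exact h2⟩
    obtain ⟨t, ht0, ht⟩ : ∃ t : F, t ≠ 0 ∧ C + t * B ≠ 0 := by
      by_cases hB : B = 0
      · subst hB
        refine ⟨1, one_ne_zero, fun h => h1 ?_⟩
        rw [mul_zero, add_zero] at h
        rw [h]; rfl
      · obtain ⟨t, ht⟩ : ((Finset.univ.erase (0 : F)).erase (-C / B)).Nonempty := by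
          rw [← Finset.card_pos]
          have := Finset.pred_card_le_card_erase (a := -C / B) (s := Finset.univ.erase (0 : F))
          rw [Finset.card_erase_of_mem (Finset.mem_univ _), Finset.card_univ] at this
          omega
        simp only [Finset.mem_erase] at ht
        exact ⟨t, ht.2.1, fun h => ht.1 (by rw [eq_div_iff hB]; linear_combination h)⟩
    have e := hd.hT 0 B C 0 t
    simp only [mul_zero, add_zero, zero_add] at e
    refine ⟨-(t * C + t ^ 2 * B), C + 2 * t * B, -B, 0, ?_, ?_⟩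
    · rw [neg_ne_zero, show t * C + t ^ 2 * B = t * (C + t * B) by ring]
      exact mul_ne_zero ht0 ht
    · rw [hd.hN, e]; exact h2
  by_cases hz0 : ∃ B C D : F, (B, C, D) ≠ 0 ∧ 0 < d 0 B C D
  · obtain ⟨B', C', D', h1, h2⟩ := hz0
    obtain ⟨S, hS, hSp⟩ := extra hd h3 hq hx (hnc (a, B, C, D) (fun e => ha (congrArg Prod.fst e)) hx)
    obtain ⟨T, hT, hTp⟩ := extra hd h3 hq h2
      (hnc (0, B', C', D') (fun e => h1 (congrArg Prod.snd e)) h2)
    have hdis : Disjoint S T := Finset.disjoint_left.2 fun x hx1 hx2 =>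
      ha ((hSp x hx1).2.2.2.1 ((hTp x hx2).2.2.2.2 rfl))
    refine le_trans ?_ (le_sum (S ∪ T) fun x hx => ?_)
    · rw [Finset.card_union_of_disjoint hdis]; omega
    · rcases Finset.mem_union.1 hx with h | h
      · exact ⟨(hSp x h).1, (hSp x h).2.1⟩
      · exact ⟨(hTp x h).1, (hTp x h).2.1⟩
  · obtain ⟨C0, D0, hx0⟩ : ∃ C0 D0 : F, 0 < d a 0 C0 D0 := by
      have e := hd.hT a B C D (-(B / (3 * a)))
      rw [show B + 3 * -(B / (3 * a)) * a = 0 by field_simp; ring] at e
      exact ⟨_, _, e ▸ hx⟩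
    have hnc0 : ¬ (C0 = 0 ∧ D0 = 0) := by
      rintro ⟨rfl, rfl⟩
      refine hnc (a, 0, 0, 0) (fun e => ha (congrArg Prod.fst e)) hx0 ?_
      simp [IsCube, ha]
    obtain ⟨C1, D1, hx1, hne1⟩ : ∃ C1 D1 : F, 0 < d a 0 C1 D1 ∧ (C1, D1) ≠ (C0, D0) := by
      have key : ∀ s : F, s ≠ 0 → 0 < d a 0 (s ^ 2 * C0) (s ^ 3 * D0) := fun s hs => by
        have e1 := hd.hS a 0 C0 D0 (s ^ 3) (pow_ne_zero 3 hs)
        have e2 := hd.hM (s ^ 3 * a) (s ^ 3 * 0) (s ^ 3 * C0) (s ^ 3 * D0) s⁻¹ (inv_ne_zero hs)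
        rw [show s⁻¹ ^ 3 * (s ^ 3 * a) = a by field_simp,
          show s⁻¹ ^ 2 * (s ^ 3 * 0) = 0 by ring,
          show s⁻¹ * (s ^ 3 * C0) = s ^ 2 * C0 by field_simp, e1] at e2
        rw [e2]; exact hx0
      rcases ne_or_eq C0 0 with hC | hC
      · obtain ⟨s, hs, hs2⟩ := exists_pow_ne hq (n := 2) (by omega) (by omega)
        exact ⟨_, _, key s hs, fun e => hs2 (mul_right_cancel₀ hC
          ((congrArg Prod.fst e).trans (one_mul C0).symm))⟩
      · have hD : D0 ≠ 0 := fun h => hnc0 ⟨hC, h⟩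
        obtain ⟨s, hs, hs3⟩ := exists_pow_ne hq (n := 3) (by omega) le_rfl
        exact ⟨_, _, key s hs, fun e => hs3 (mul_right_cancel₀ hD
          ((congrArg Prod.snd e).trans (one_mul D0).symm))⟩
    obtain ⟨S, hS, hSp⟩ := exists_set (n := 2 * ((Fintype.card F) * ((Fintype.card F) - 1)))
      (fun i : Fˣ × F × Bool => ((i.1 : F) * a, (i.1 : F) * (3 * i.2.1 * a),
        (i.1 : F) * ((if i.2.2 then C1 else C0) + 3 * i.2.1 ^ 2 * a),
        (i.1 : F) * ((if i.2.2 then D1 else D0) + i.2.1 * (if i.2.2 then C1 else C0) +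
          i.2.1 ^ 3 * a)))
      (by
        rintro ⟨s, t, b⟩ ⟨s', t', b'⟩ h
        simp only [Prod.mk.injEq] at h
        obtain rfl : s = s' := Units.ext (mul_right_cancel₀ ha h.1)
        obtain rfl := mul_left_cancel₀ h3 (mul_right_cancel₀ ha (mul_left_cancel₀ s.ne_zero h.2.1))
        have e1 := add_right_cancel (mul_left_cancel₀ s.ne_zero h.2.2.1)
        have e2 := mul_left_cancel₀ s.ne_zero h.2.2.2
        rw [e1] at e2
        have e2 := add_right_cancel (add_right_cancel e2)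
        cases b <;> cases b' <;> simp at e1 e2 ⊢
        · exact hne1 (by rw [e1, e2])
        · exact hne1 (by rw [← e1, ← e2]))
      (by rw [Fintype.card_prod, Fintype.card_prod, Fintype.card_units, Fintype.card_bool]; ring_nf; rfl)
      (fun x => x ≠ 0 ∧ 0 < uc d x) fun i => by
        refine ⟨fun e => mul_ne_zero i.1.ne_zero ha (congrArg Prod.fst e), ?_⟩
        show 0 < d _ _ _ _
        rw [hd.hS _ _ _ _ _ i.1.ne_zero]
        have e1 := hd.hT a 0 (if i.2.2 then C1 else C0) (if i.2.2 then D1 else D0) i.2.1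
        simp only [mul_zero, add_zero, zero_add] at e1
        rw [e1]
        cases i.2.2 <;> simp [hx0, hx1]
    exact le_trans (by omega) (le_sum S hSp)

theorem cubic_bound (hne : ∃ x : F × F × F × F, x ≠ 0 ∧ 0 < uc d x) :
    (Fintype.card F) ^ 2 - 1 + uc d 0 ≤ ∑ x, uc d x := by
  rcases support_cases hd h3 hq hne with h | h
  · obtain ⟨S, hS, hSp⟩ := cube_set h3
    exact le_trans (by omega)
      (le_sum S fun x hx => ⟨(hSp x hx).1, by rw [cube_value hd h3 hq (hSp x hx).2 (hSp x hx).1]; exact h⟩)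
  · refine le_trans ?_ h
    obtain ⟨n, hn⟩ : ∃ n, (Fintype.card F) = n + 5 := ⟨(Fintype.card F) - 5, by omega⟩
    have : (Fintype.card F) ^ 2 - 1 ≤ 2 * ((Fintype.card F) * ((Fintype.card F) - 1)) := by
      rw [hn, show n + 5 - 1 = n + 4 by omega, Nat.sub_le_iff_le_add]
      ring_nf; omega
    omega

theorem cubic_small (hne : ∃ x : F × F × F × F, x ≠ 0 ∧ 0 < uc d x)
    (hsum : ∑ x, uc d x ≤ (Fintype.card F) ^ 2) :
    d 0 0 0 1 = 1 ∧ ∀ x, x ≠ 0 → 0 < uc d x → IsCube x := by
  obtain ⟨n, hn⟩ : ∃ n, (Fintype.card F) = n + 5 := ⟨(Fintype.card F) - 5, by omega⟩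
  have hbig : (Fintype.card F) ^ 2 < 2 * ((Fintype.card F) * ((Fintype.card F) - 1)) := by
    rw [hn, show n + 5 - 1 = n + 4 by omega]; ring_nf; omega
  rcases support_cases hd h3 hq hne with h | h
  swap
  · omega
  obtain ⟨S, hS, hSp⟩ := cube_set h3
  have hval : ∀ x ∈ S, uc d x = d 0 0 0 1 := fun x hx =>
    cube_value hd h3 hq (hSp x hx).2 (hSp x hx).1
  have hmul : S.card * d 0 0 0 1 ≤ ∑ x, uc d x := by
    rw [← smul_eq_mul, ← Finset.sum_const, ← Finset.sum_congr rfl hval]
    exact Finset.sum_le_sum_of_subset (Finset.subset_univ S)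
  refine ⟨le_antisymm ?_ h, fun x hx hpos => ?_⟩
  · by_contra h2
    have : 2 * S.card ≤ S.card * d 0 0 0 1 := by
      rw [mul_comm 2]; exact Nat.mul_le_mul_left _ (by omega)
    have : (Fintype.card F) ^ 2 < 2 * ((Fintype.card F) ^ 2 - 1) := by rw [hn]; ring_nf; omega
    omega
  · by_contra hK
    obtain ⟨a, B, C, D⟩ := x
    obtain ⟨T, hT, hTp⟩ := extra hd h3 hq hpos hK
    have hdis : Disjoint S T := Finset.disjoint_left.2 fun y h1 h2 => (hTp y h2).2.2.1 (hSp y h1).2
    have := le_sum (d := d) (S ∪ T) fun y hy => by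
      rcases Finset.mem_union.1 hy with h1 | h1
      · exact ⟨(hSp y h1).1, by rw [hval y h1]; exact h⟩
      · exact ⟨(hTp y h1).1, (hTp y h1).2.1⟩
    rw [Finset.card_union_of_disjoint hdis] at this
    have : 2 ≤ (Fintype.card F) * ((Fintype.card F) - 1) := by rw [hn, show n + 5 - 1 = n + 4 by omega]; ring_nf; omega
    omega

end Cfsg.Agent.H53.G2
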