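import Mathlib

/-!
The arithmetic behind the minimal degree of `G₂(3ⁿ)`.
-/

set_option autoImplicit false

namespace Cfsg.Agent.H53.G2

/-- the numbers attached to a representation, with `q = u + 1` -/
structure Profile where
  f : ℕ
  e : ℕ
  L : ℕ
  R : ℕ
  R0 : ℕ
  m0 : ℕ
  m1 : ℕ

namespace Profile

variable (P : Profile) (u : ℕ)

/-- weights above a non-trivial central character -/
def M : ℕ := P.m0 + u * (u + 2) * P.m1

/-- the fixed space of the highest root subgroup -/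
def V0 : ℕ := P.f + u * (u + 2) * (P.e + (u + 1) * P.L + P.R)

/-- the constraints on a single representation -/
structure Valid (k : ℕ) : Prop where
  total : k = P.V0 u + u * ((u + 1) * P.M u)
  conj : P.f + u * P.e + (u + 1) * u * (P.L + P.R0) + u * ((u + 1) * P.L) + u * P.M u = P.V0 u
  pos : 0 < P.M u
  R0_le : P.R0 * (u + 1) ≤ 3 * P.R
  R_low : 0 < P.R → (u + 1) * u ≤ 6 * P.R

/-- the fixed space of a short root subgroup -/
def short : ℕ :=
  P.f + u * (u + 2) * P.e + u * ((u + 1) * P.L + P.R) + u * ((u + 1) * (P.m0 + u * P.m1))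

variable {P} {u} {k : ℕ}

theorem Valid.M_eq (h : P.Valid u k) (hu : 0 < u) :
    P.M u + (u + 1) * P.R0 = (u + 1) * P.e + u * ((u + 1) * P.L) + (u + 2) * P.R := by
  have h2 := h.conj
  simp only [V0] at h2
  have : u * (P.M u + (u + 1) * P.R0) =
      u * ((u + 1) * P.e + u * ((u + 1) * P.L) + (u + 2) * P.R) := by
    zify at h2 ⊢; linear_combination h2
  exact Nat.eq_of_mul_eq_mul_left hu this

theorem Valid.big_of_R (h : P.Valid u k) (hu : 8 ≤ u) (hR : 0 < P.R) :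
    (u + 1) ^ 4 + (u + 1) ^ 2 + 1 ≤ k := by
  have h1 := h.M_eq (by omega)
  have h2 := h.R_low hR
  have h3 := h.R0_le
  have hM : (u - 1) * P.R ≤ P.M u := by
    obtain ⟨w, rfl⟩ : ∃ w, u = w + 8 := ⟨u - 8, by omega⟩
    rw [show w + 8 - 1 = w + 7 by omega]
    have e : (w + 7) * P.R + 3 * P.R = (w + 8 + 2) * P.R := by ring
    rw [mul_comm] at h3
    omega
  have h4 : (u * ((u + 1) * (u - 1)) + u * (u + 2)) * P.R ≤ k := by
    rw [h.total, V0]
    have h5 : u * (u + 2) * P.R ≤ u * (u + 2) * (P.e + (u + 1) * P.L + P.R) :=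
      Nat.mul_le_mul_left _ (by omega)
    have h6 : u * ((u + 1) * ((u - 1) * P.R)) ≤ u * ((u + 1) * P.M u) :=
      Nat.mul_le_mul_left _ (Nat.mul_le_mul_left _ hM)
    calc _ = u * (u + 2) * P.R + u * ((u + 1) * ((u - 1) * P.R)) := by ring
      _ ≤ _ := by omega
  obtain ⟨w, rfl⟩ : ∃ w, u = w + 8 := ⟨u - 8, by omega⟩
  rw [show w + 8 - 1 = w + 7 by omega] at h4
  suffices h6 : 6 * ((w + 8 + 1) ^ 4 + (w + 8 + 1) ^ 2 + 1) ≤ 6 * k by omega
  refine le_trans ?_ (Nat.mul_le_mul_left 6 h4)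
  refine le_trans ?_ (le_of_eq (mul_left_comm _ 6 P.R))
  refine le_trans ?_ (Nat.mul_le_mul_left _ h2)
  ring_nf
  omega

variable {P' : Profile}

theorem cross (h : P.Valid u k) (h' : P'.Valid u k) (hs : P'.V0 u = P.short u) (hu : 0 < u) :
    P'.M u = (u + 1) * P.L + P.R + (u + 1) * (u * P.m1) := by
  have h1 := h.total
  rw [h'.total, hs, V0, short] at h1
  have : u * (u + 1) * P'.M u =
      u * (u + 1) * ((u + 1) * P.L + P.R + (u + 1) * (u * P.m1)) := by
    simp only [M] at h1 ⊢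
    zify at h1 ⊢
    linear_combination h1
  exact Nat.eq_of_mul_eq_mul_left (Nat.mul_pos hu (by omega)) this

theorem main_side (h : P.Valid u k) (h' : P'.Valid u k) (hs : P'.V0 u = P.short u)
    (hs' : P.V0 u = P'.short u) (hu : 8 ≤ u) (hR : P.R = 0) (hR' : P'.R = 0) (hm : 0 < P.m1) :
    (u + 1) ^ 4 + (u + 1) ^ 2 + 1 ≤ k ∨
      (P.e = 1 ∧ P'.e = 1 ∧ P.f = P'.f ∧ k + u + 2 = (u + 1) ^ 4 + (u + 1) ^ 2 + P.f) := by
  have hR0 : P.R0 = 0 := by have := h.R0_le; rw [hR] at this; nlinarith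
  have hR0' : P'.R0 = 0 := by have := h'.R0_le; rw [hR'] at this; nlinarith
  have e1 := h.M_eq (by omega)
  have e1' := h'.M_eq (by omega)
  have e2 := cross h h' hs (by omega)
  have e2' := cross h' h hs' (by omega)
  rw [hR, hR0] at e1
  rw [hR', hR0'] at e1'
  rw [hR] at e2
  rw [hR'] at e2'
  simp only [mul_zero, add_zero] at e1 e1' e2 e2'
  have n' : P'.e + u * P'.L = P.L + u * P.m1 :=
    Nat.eq_of_mul_eq_mul_left (show 0 < u + 1 by omega) (by linarith)
  have n : P.e + u * P.L = P'.L + u * P'.m1 :=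
    Nat.eq_of_mul_eq_mul_left (show 0 < u + 1 by omega) (by linarith)
  obtain ⟨N, hN⟩ : ∃ N, P.e + u * P.L = N := ⟨_, rfl⟩
  have hMN : P.M u = (u + 1) * N := by rw [← hN]; linarith
  have hNq : u + 1 ≤ N := by
    by_contra hlt
    have h1 : (u + 1) * N ≤ (u + 1) * u := Nat.mul_le_mul_left _ (by omega)
    have h2 : u * (u + 2) * 1 ≤ u * (u + 2) * P.m1 := Nat.mul_le_mul_left _ hm
    have h3 : P.M u = P.m0 + u * (u + 2) * P.m1 := rfl
    have h4 : (u + 1) * u + u = u * (u + 2) := by ring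
    rw [mul_one] at h2
    omega
  have hk : k = P.f + u * (u + 2) * (P.e + (u + 1) * P.L) + u * ((u + 1) * ((u + 1) * N)) := by
    rw [h.total, hMN, V0, hR, add_zero]
  rcases Nat.lt_or_ge (u + 1) N with hgt | hle
  · left
    rw [hk]
    have h0 : u * P.L ≤ (u + 1) * P.L := Nat.mul_le_mul_right _ (by omega)
    have h1 : N ≤ P.e + (u + 1) * P.L := by omega
    have h2 : u * (u + 2) * (u + 2) ≤ u * (u + 2) * (P.e + (u + 1) * P.L) :=
      Nat.mul_le_mul_left _ (by omega)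
    have h3 : u * ((u + 1) * ((u + 1) * (u + 2))) ≤ u * ((u + 1) * ((u + 1) * N)) :=
      Nat.mul_le_mul_left _ (Nat.mul_le_mul_left _ (Nat.mul_le_mul_left _ (by omega)))
    have h4 : (u + 1) ^ 4 + (u + 1) ^ 2 + 1 ≤
        u * (u + 2) * (u + 2) + u * ((u + 1) * ((u + 1) * (u + 2))) := by
      obtain ⟨w, rfl⟩ : ∃ w, u = w + 8 := ⟨u - 8, by omega⟩
      ring_nf
      omega
    omega
  · obtain rfl : N = u + 1 := by omega
    have hMdef : P.M u = P.m0 + u * (u + 2) * P.m1 := rfl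
    have hMdef' : P'.M u = P'.m0 + u * (u + 2) * P'.m1 := rfl
    have q1 : (u + 1) * (u + 1) = u * (u + 2) + 1 := by ring
    have q2 : u * (u + 2) * 2 = u * (u + 2) + u * (u + 2) := by ring
    have q3 : 80 ≤ u * (u + 2) := le_trans (by norm_num) (Nat.mul_le_mul hu (Nat.add_le_add_right hu 2))
    have q4 : (u + 1) * u + u = u * (u + 2) := by ring
    have hm1 : P.m1 = 1 := by
      by_contra hne
      have h2 : u * (u + 2) * 2 ≤ u * (u + 2) * P.m1 := Nat.mul_le_mul_left _ (by omega)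
      omega
    rw [hm1, mul_one] at n' e2
    have hL : P.L ≤ 1 := by
      by_contra hne
      have : u * 2 ≤ u * P.L := Nat.mul_le_mul_left _ (by omega)
      omega
    have hL' : P'.L ≤ 1 := by
      by_contra hne
      have : u * 2 ≤ u * P'.L := Nat.mul_le_mul_left _ (by omega)
      omega
    have hm1' : P'.m1 = 1 := by
      rcases Nat.lt_trichotomy P'.m1 1 with h0 | h0 | h0
      · rw [show P'.m1 = 0 by omega, mul_zero] at n
        omega
      · exact h0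
      · exfalso
        have h2 : u * 2 ≤ u * P'.m1 := Nat.mul_le_mul_left _ h0
        omega
    rw [hm1', mul_one] at n hMdef'
    have hL1' : P'.L = 1 := by omega
    rw [hL1', mul_one] at n'
    have hL1 : P.L = 1 := by
      by_contra hne
      rw [show P.L = 0 by omega, mul_zero, zero_add] at e2
      omega
    have hMM : P'.M u = P.M u := by rw [e2, hMN, hL1]; ring
    have he : P.e = 1 := by rw [hL1, mul_one] at hN; omega
    have he' : P'.e = 1 := by omega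
    have hk' := h'.total
    rw [hMM, hMN, V0, hR', he', hL1', add_zero] at hk'
    rw [he, hL1] at hk
    right
    refine ⟨he, he', by omega, ?_⟩
    rw [hk]; ring

theorem bound (h : P.Valid u k) (h' : P'.Valid u k) (hs : P'.V0 u = P.short u)
    (hs' : P.V0 u = P'.short u) (hu : 8 ≤ u) :
    (u + 1) ^ 4 + (u + 1) ^ 2 + 1 ≤ k ∨
      (P.e = 1 ∧ P'.e = 1 ∧ P.f = P'.f ∧ k + u + 2 = (u + 1) ^ 4 + (u + 1) ^ 2 + P.f) := by
  rcases Nat.eq_zero_or_pos P.R with hR | hR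
  swap
  · exact Or.inl (h.big_of_R hu hR)
  rcases Nat.eq_zero_or_pos P'.R with hR' | hR'
  swap
  · exact Or.inl (h'.big_of_R hu hR')
  rcases Nat.eq_zero_or_pos P.m1 with hm | hm
  swap
  · exact main_side h h' hs hs' hu hR hR' hm
  rcases Nat.eq_zero_or_pos P'.m1 with hm' | hm'
  swap
  · rcases main_side h' h hs' hs hu hR' hR hm' with e | ⟨e1, e2, e3, e4⟩
    · exact Or.inl e
    · exact Or.inr ⟨e2, e1, e3.symm, e3 ▸ e4⟩
  exfalso
  have e2 := cross h h' hs (by omega)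
  have e2' := cross h' h hs' (by omega)
  have hR0 : P.R0 = 0 := by have := h.R0_le; rw [hR] at this; nlinarith
  have hR0' : P'.R0 = 0 := by have := h'.R0_le; rw [hR'] at this; nlinarith
  have e1 := h.M_eq (by omega)
  have e1' := h'.M_eq (by omega)
  rw [hR, hR0] at e1
  rw [hR', hR0'] at e1'
  rw [hR, hm] at e2
  rw [hR', hm'] at e2'
  simp only [mul_zero, add_zero] at e1 e1' e2 e2'
  have n' : P'.e + u * P'.L = P.L :=
    Nat.eq_of_mul_eq_mul_left (show 0 < u + 1 by omega) (by linarith)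
  have n : P.e + u * P.L = P'.L :=
    Nat.eq_of_mul_eq_mul_left (show 0 < u + 1 by omega) (by linarith)
  have hz : P.L = 0 := by nlinarith
  have hz' : P'.L = 0 := by nlinarith
  have := h'.pos
  rw [e2, hz] at this
  simp at this

/-- the exceptional degrees do not divide the order -/
theorem no_divisor {q k : ℕ} (hq : 9 ≤ q)
    (hk : k + 2 = q ^ 4 + q ^ 2 ∨ k + 1 = q ^ 4 + q ^ 2 ∨ k = q ^ 4 + q ^ 2) :
    ¬ k ∣ q ^ 6 * (q ^ 2 - 1) * (q ^ 6 - 1) := by
  intro h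
  have h1 : 1 ≤ q ^ 2 := Nat.one_le_pow _ _ (by omega)
  have h6 : 1 ≤ q ^ 6 := Nat.one_le_pow _ _ (by omega)
  have hz : (k : ℤ) ∣ ((q : ℤ) ^ 6 * ((q : ℤ) ^ 2 - 1) * ((q : ℤ) ^ 6 - 1)) := by
    have := Int.natCast_dvd_natCast.2 h
    push_cast [Nat.cast_sub h1, Nat.cast_sub h6] at this
    exact this
  obtain ⟨c, hc⟩ := hz
  have hx : 81 ≤ (q : ℤ) ^ 2 := by nlinarith
  rcases hk with hk | hk | hk
  · have hk' : (k : ℤ) = ((q : ℤ) ^ 2 - 1) * ((q : ℤ) ^ 2 + 2) := by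
      have : (k : ℤ) + 2 = (q : ℤ) ^ 4 + (q : ℤ) ^ 2 := by exact_mod_cast hk
      linear_combination this
    have hdvd : ((q : ℤ) ^ 2 + 2) ∣ 72 := by
      have h2 : (q : ℤ) ^ 6 * ((q : ℤ) ^ 6 - 1) = ((q : ℤ) ^ 2 + 2) * c :=
        mul_left_cancel₀ (show ((q : ℤ) ^ 2 - 1) ≠ 0 by omega)
          (by rw [hk'] at hc; linear_combination hc)
      exact ⟨c - ((q : ℤ) ^ 10 - 2 * q ^ 8 + 4 * q ^ 6 - 9 * q ^ 4 + 18 * q ^ 2 - 36),
        by linear_combination h2⟩
    have := Int.le_of_dvd (by norm_num) hdvd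
    omega
  · have hk' : (k : ℤ) = (q : ℤ) ^ 4 + (q : ℤ) ^ 2 - 1 := by
      have : (k : ℤ) + 1 = (q : ℤ) ^ 4 + (q : ℤ) ^ 2 := by exact_mod_cast hk
      linear_combination this
    have hdvd : (k : ℤ) ∣ 26 * (q : ℤ) ^ 2 - 16 :=
      ⟨c - ((q : ℤ) ^ 10 - 2 * q ^ 8 + 3 * q ^ 6 - 6 * q ^ 4 + 10 * q ^ 2 - 16),
        by rw [hk'] at hc ⊢; linear_combination hc⟩
    have := Int.le_of_dvd (by linarith) hdvd
    rw [hk'] at this
    nlinarith
  · have hk' : (k : ℤ) = (q : ℤ) ^ 2 * ((q : ℤ) ^ 2 + 1) := by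
      have : (k : ℤ) = (q : ℤ) ^ 4 + (q : ℤ) ^ 2 := by exact_mod_cast hk
      linear_combination this
    have hdvd : ((q : ℤ) ^ 2 + 1) ∣ 4 := by
      have h2 : (q : ℤ) ^ 4 * ((q : ℤ) ^ 2 - 1) * ((q : ℤ) ^ 6 - 1) = ((q : ℤ) ^ 2 + 1) * c :=
        mul_left_cancel₀ (show (q : ℤ) ^ 2 ≠ 0 by omega)
          (by rw [hk'] at hc; linear_combination hc)
      exact ⟨c - ((q : ℤ) ^ 10 - 2 * q ^ 8 + 2 * q ^ 6 - 3 * q ^ 4 + 4 * q ^ 2 - 4),
        by linear_combination h2⟩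
    have := Int.le_of_dvd (by norm_num) hdvd
    omega

end Profile

end Cfsg.Agent.H53.G2
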