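import Cfsg.Agent.H53.G2.Cubic

/-!
Characteristic three: sums of an invariant function of the four coefficients.
-/

set_option autoImplicit false
set_option linter.unusedSectionVars false

namespace Cfsg.Agent.H53.G2

variable {F : Type*} [Field F] [Fintype F] [DecidableEq F] {d : F → F → F → F → ℕ}

/-- the value at a short root line -/
def lineL (d : F → F → F → F → ℕ) : ℕ := d 0 0 1 0

/-- the mass over non-zero first coefficient -/
def massR (d : F → F → F → F → ℕ) : ℕ := ∑ a ∈ Finset.univ.erase (0 : F), ∑ x, d a 0 1 x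

/-- the part of `massR` on a hyperplane -/
def massR0 (d : F → F → F → F → ℕ) : ℕ := ∑ a ∈ Finset.univ.erase (0 : F), d a 0 1 0

variable (hd : CubicInv d) (h3 : (3 : F) = 0)
include hd h3

theorem T3 (a B C D t : F) :
    d a B (C - t * B) (D + t * C + t ^ 2 * B + t ^ 3 * a) = d a B C D := by
  have h := hd.hT a B C D t
  rw [show B + 3 * t * a = B by linear_combination (t * a) * h3,
    show C + 2 * t * B + 3 * t ^ 2 * a = C - t * B by
      linear_combination (t * B + t ^ 2 * a) * h3] at h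
  exact h

variable (hcube : ∀ x : F, ∃ y : F, y ^ 3 = x)
include hcube

theorem pair_const {a D : F} (h : ¬ (a = 0 ∧ D = 0)) : d a 0 0 D = d 0 0 0 1 := by
  have hp : ∀ D : F, D ≠ 0 → d 0 0 0 D = d 0 0 0 1 := fun D hD => by
    simpa using hd.hS 0 0 0 1 D hD
  rcases eq_or_ne a 0 with rfl | ha
  · exact hp D fun hD => h ⟨rfl, hD⟩
  · obtain ⟨t, ht⟩ := hcube (D / a)
    have e := T3 hd h3 a 0 0 0 t
    simp only [mul_zero, sub_zero, add_zero, zero_add, ht, div_mul_cancel₀ D ha] at e
    rw [e, ← hd.hN a 0 0 0, neg_zero]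
    exact hp a ha

omit hcube in
theorem line_const (x : F) : d 0 0 1 x = lineL d := by
  have e := T3 hd h3 0 0 1 0 x
  simpa [lineL] using e

omit h3 hcube in
theorem scale_one (a D : F) {C : F} (hC : C ≠ 0) : d a 0 C D = d (a / C) 0 1 (D / C) := by
  have e := hd.hS (a / C) 0 1 (D / C) C hC
  rwa [mul_zero, mul_one, mul_div_cancel₀ a hC, mul_div_cancel₀ D hC] at e

omit hcube in
theorem sum_plane_one : ∑ a, ∑ D, d a 0 1 D = Fintype.card F * lineL d + massR d := by
  rw [← Finset.add_sum_erase _ _ (Finset.mem_univ (0 : F))]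
  congr 1
  simp [line_const hd h3]

omit hcube in
theorem sum_plane_C {C : F} (hC : C ≠ 0) :
    ∑ a, ∑ D, d a 0 C D = Fintype.card F * lineL d + massR d := by
  rw [← sum_plane_one hd h3]
  refine Fintype.sum_equiv (Equiv.mulRight₀ C⁻¹ (inv_ne_zero hC)) _ _ fun a => ?_
  refine Fintype.sum_equiv (Equiv.mulRight₀ C⁻¹ (inv_ne_zero hC)) _ _ fun D => ?_
  simp only [Equiv.mulRight₀_apply, ← div_eq_mul_inv]
  exact scale_one hd a D hC

omit hcube in
theorem sum_plane {B C : F} (h : ¬ (B = 0 ∧ C = 0)) :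
    ∑ a, ∑ D, d a B C D = Fintype.card F * lineL d + massR d := by
  rcases eq_or_ne B 0 with rfl | hB
  · exact sum_plane_C hd h3 fun hC => h ⟨rfl, hC⟩
  · have e : ∀ a, ∑ D, d a B C D = ∑ D, d a B 0 D := fun a =>
      Fintype.sum_equiv (Equiv.addRight ((C / B) * C + (C / B) ^ 2 * B + (C / B) ^ 3 * a)) _ _
        fun D => by
          have := T3 hd h3 a B C D (C / B)
          rw [div_mul_cancel₀ C hB, sub_self] at this
          simp only [Equiv.coe_addRight, ← add_assoc]
          exact this.symm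
    simp only [e]
    rw [Finset.sum_comm, ← sum_plane_C hd h3 (neg_ne_zero.2 hB)]
    exact Fintype.sum_equiv (Equiv.neg F) _ _ fun D =>
      Finset.sum_congr rfl fun a _ => (hd.hN a B 0 D).symm

omit hcube in
theorem sum_line_C {C : F} (hC : C ≠ 0) :
    ∑ a, d a 0 C 0 = lineL d + massR0 d := by
  have e : ∑ a, d a 0 1 0 = lineL d + massR0 d := by
    rw [← Finset.add_sum_erase _ _ (Finset.mem_univ (0 : F))]
    rfl
  rw [← e]
  refine Fintype.sum_equiv (Equiv.mulRight₀ C⁻¹ (inv_ne_zero hC)) _ _ fun a => ?_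
  simp only [Equiv.mulRight₀_apply, ← div_eq_mul_inv]
  rw [scale_one hd a 0 hC, zero_div]

omit hcube in
theorem sum_line (B : F) {C : F} (hC : C ≠ 0) : ∑ a, d a B C 0 = lineL d + massR0 d := by
  have e1 : ∑ a, d a B C 0 = ∑ a, d 0 C (-B) a := Finset.sum_congr rfl fun a _ => by
    rw [← hd.hN a B C 0, neg_zero]
  have e2 : ∑ a, d 0 C (-B) a = ∑ a, d 0 C 0 a := by
    refine Fintype.sum_equiv (Equiv.addRight ((-B / C) * -B + (-B / C) ^ 2 * C)) _ _ fun a => ?_
    have := T3 hd h3 0 C (-B) a (-B / C)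
    rw [div_mul_cancel₀ (-B) hC, sub_self, mul_zero, add_zero] at this
    simp only [Equiv.coe_addRight, ← add_assoc]
    exact this.symm
  rw [e1, e2, ← sum_line_C hd h3 (neg_ne_zero.2 hC)]
  refine Fintype.sum_equiv (Equiv.neg F) _ _ fun a => ?_
  rw [Equiv.neg_apply, hd.hN]

omit hcube in
theorem sum_line_zero {B : F} (hB : B ≠ 0) : ∑ a, d a B 0 0 = Fintype.card F * lineL d := by
  have e : ∀ a, d a B 0 0 = lineL d := fun a => by
    rw [← hd.hN a B 0 0, neg_zero, scale_one hd 0 a (neg_ne_zero.2 hB), zero_div,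
      line_const hd h3]
  simp [e]

theorem sum_origin :
    ∑ a, ∑ D, d a 0 0 D = d 0 0 0 0 + (Fintype.card F ^ 2 - 1) * d 0 0 0 1 := by
  rw [← Fintype.sum_prod_type', ← Finset.add_sum_erase _ _ (Finset.mem_univ ((0 : F), (0 : F))),
    Finset.sum_congr rfl fun x hx => pair_const hd h3 hcube
      (fun e => Finset.ne_of_mem_erase hx (Prod.ext e.1 e.2)),
    Finset.sum_const, Finset.card_erase_of_mem (Finset.mem_univ _), Finset.card_univ,
    Fintype.card_prod, smul_eq_mul, pow_two]

theorem sum_all : ∑ x : F × F × F × F, uc d x = d 0 0 0 0 +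
    (Fintype.card F ^ 2 - 1) * (d 0 0 0 1 + Fintype.card F * lineL d + massR d) := by
  have e : ∑ x : F × F × F × F, uc d x = ∑ p : F × F, ∑ a, ∑ D, d a p.1 p.2 D := by
    simp only [Fintype.sum_prod_type, uc]
    rw [Finset.sum_comm]
    exact Finset.sum_congr rfl fun B _ => Finset.sum_comm
  rw [e, ← Finset.add_sum_erase _ _ (Finset.mem_univ ((0 : F), (0 : F))),
    sum_origin hd h3 hcube, Finset.sum_congr rfl fun p hp => sum_plane hd h3
      (fun e => Finset.ne_of_mem_erase hp (Prod.ext e.1 e.2)),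
    Finset.sum_const, Finset.card_erase_of_mem (Finset.mem_univ _), Finset.card_univ,
    Fintype.card_prod, smul_eq_mul, ← pow_two, add_assoc, ← mul_add, add_assoc]

theorem sum_slice_D : ∑ B, ∑ C, ∑ a, d a B C 0 = d 0 0 0 0 + (Fintype.card F - 1) * d 0 0 0 1 +
    Fintype.card F * (Fintype.card F - 1) * (lineL d + massR0 d) +
    (Fintype.card F - 1) * (Fintype.card F * lineL d) := by
  have e : ∀ B, ∑ C, ∑ a, d a B C 0 =
      ∑ a, d a B 0 0 + (Fintype.card F - 1) * (lineL d + massR0 d) := fun B => by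
    rw [← Finset.add_sum_erase _ _ (Finset.mem_univ (0 : F)),
      Finset.sum_congr rfl fun C hC => sum_line hd h3 B (Finset.ne_of_mem_erase hC),
      Finset.sum_const, Finset.card_erase_of_mem (Finset.mem_univ _), Finset.card_univ, smul_eq_mul]
  simp only [e, Finset.sum_add_distrib, Finset.sum_const, Finset.card_univ, smul_eq_mul]
  rw [← Finset.add_sum_erase _ _ (Finset.mem_univ (0 : F)),
    Finset.sum_congr rfl fun B hB => sum_line_zero hd h3 (Finset.ne_of_mem_erase hB),
    Finset.sum_const, Finset.card_erase_of_mem (Finset.mem_univ _), Finset.card_univ, smul_eq_mul,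
    ← Finset.add_sum_erase _ _ (Finset.mem_univ (0 : F)),
    Finset.sum_congr rfl fun a ha => pair_const hd h3 hcube (D := 0)
      (fun e => Finset.ne_of_mem_erase ha e.1),
    Finset.sum_const, Finset.card_erase_of_mem (Finset.mem_univ _), Finset.card_univ, smul_eq_mul,
    ← mul_assoc (Fintype.card F)]
  ring

theorem sum_slice_B : ∑ C, ∑ a, ∑ D, d a 0 C D = d 0 0 0 0 +
    (Fintype.card F ^ 2 - 1) * d 0 0 0 1 +
    (Fintype.card F - 1) * (Fintype.card F * lineL d + massR d) := by
  rw [← Finset.add_sum_erase _ _ (Finset.mem_univ (0 : F)), sum_origin hd h3 hcube,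
    Finset.sum_congr rfl fun C hC => sum_plane_C hd h3 (Finset.ne_of_mem_erase hC),
    Finset.sum_const, Finset.card_erase_of_mem (Finset.mem_univ _), Finset.card_univ, smul_eq_mul]

omit hd h3 hcube in
theorem sum_comp_le (g : F → F) (h : F → ℕ) (n : ℕ)
    (hg : ∀ x, (Finset.univ.filter fun t => g t = x).card ≤ n) :
    ∑ t, h (g t) ≤ n * ∑ x, h x := by
  rw [← Finset.sum_fiberwise Finset.univ g fun t => h (g t), Finset.mul_sum]
  refine Finset.sum_le_sum fun x _ => ?_
  rw [Finset.sum_congr rfl fun t ht => by rw [(Finset.mem_filter.1 ht).2], Finset.sum_const,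
    smul_eq_mul]
  exact Nat.mul_le_mul_right _ (hg x)

omit hd h3 hcube in
theorem fibre_cubic (a x c : F) :
    (Finset.univ.filter fun t : F => x + t + t ^ 3 * a = c).card ≤ 3 := by
  let P : Polynomial F :=
    Polynomial.C a * Polynomial.X ^ 3 + Polynomial.X + Polynomial.C (x - c)
  have hP : P ≠ 0 := fun h => by
    have := congrArg (fun p => Polynomial.coeff p 1) h
    simp [P, Polynomial.coeff_X_pow] at this
  refine le_trans (Finset.card_le_card (t := P.roots.toFinset) fun t ht => ?_)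
    ((Multiset.toFinset_card_le _).trans ((Polynomial.card_roots' P).trans ?_))
  · rw [Multiset.mem_toFinset, Polynomial.mem_roots hP]
    have := (Finset.mem_filter.1 ht).2
    simp only [Polynomial.IsRoot, P, Polynomial.eval_add, Polynomial.eval_mul, Polynomial.eval_C,
      Polynomial.eval_pow, Polynomial.eval_X]
    linear_combination this
  · simp only [P]
    compute_degree

omit hcube in
theorem row_bound (a x : F) : Fintype.card F * d a 0 1 x ≤ 3 * ∑ y, d a 0 1 y := by
  have h : ∀ t, d a 0 1 (x + t + t ^ 3 * a) = d a 0 1 x := fun t => by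
    have := T3 hd h3 a 0 1 x t
    simpa using this
  calc Fintype.card F * d a 0 1 x = ∑ t, d a 0 1 (x + t + t ^ 3 * a) := by simp [h]
    _ ≤ _ := sum_comp_le _ _ 3 (fibre_cubic a x)

omit hcube in
theorem massR0_bound : massR0 d * Fintype.card F ≤ 3 * massR d := by
  rw [massR0, massR, Finset.sum_mul, Finset.mul_sum]
  exact Finset.sum_le_sum fun a _ => by rw [mul_comm]; exact row_bound hd h3 a 0

omit hd h3 hcube in
theorem massR0_le : massR0 d ≤ massR d :=
  Finset.sum_le_sum fun a _ => Finset.single_le_sum (f := fun x => d a 0 1 x)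
    (fun _ _ => Nat.zero_le _) (Finset.mem_univ 0)

omit hcube in
theorem massR_lower (h : 0 < massR d) :
    Fintype.card F * (Fintype.card F - 1) ≤ 6 * massR d := by
  obtain ⟨a, ha, hx⟩ := Finset.exists_ne_zero_of_sum_ne_zero h.ne'
  obtain ⟨x, -, hx⟩ := Finset.exists_ne_zero_of_sum_ne_zero hx
  have ha0 := Finset.ne_of_mem_erase ha
  set S : Finset F := (Finset.univ : Finset Fˣ).image (fun s : Fˣ => a / (s : F) ^ 2) with hS
  have hrow : ∀ a' ∈ S, Fintype.card F ≤ 3 * ∑ y, d a' 0 1 y := by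
    intro a' ha'
    obtain ⟨s, -, rfl⟩ := Finset.mem_image.1 ha'
    refine le_trans ?_ (row_bound hd h3 _ ((s : F) * x))
    have hs := s.ne_zero
    have e1 := hd.hS a 0 1 x s hs
    have e2 := hd.hM ((s : F) * a) ((s : F) * 0) ((s : F) * 1) ((s : F) * x) (s : F)⁻¹
      (inv_ne_zero hs)
    rw [e1, show (s : F)⁻¹ ^ 3 * (s * a) = a / (s : F) ^ 2 by field_simp,
      show (s : F)⁻¹ ^ 2 * (s * 0) = 0 by ring,
      show (s : F)⁻¹ * (s * 1) = 1 by field_simp] at e2
    rw [e2]
    exact Nat.le_mul_of_pos_right _ (Nat.pos_of_ne_zero hx)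
  have hcard : Fintype.card F - 1 ≤ 2 * S.card := by
    rw [← Fintype.card_units, ← Finset.card_univ, hS]
    refine Finset.card_le_mul_card_image _ 2 fun b hb => ?_
    obtain ⟨s, -, hb⟩ := Finset.mem_image.1 hb
    refine le_trans (Finset.card_le_card (t := {s, -s}) fun r hr => ?_) Finset.card_le_two
    have hr' := (Finset.mem_filter.1 hr).2
    have hr' := hr'.trans hb.symm
    rw [div_eq_div_iff (pow_ne_zero 2 r.ne_zero) (pow_ne_zero 2 s.ne_zero)] at hr'
    rcases sq_eq_sq_iff_eq_or_eq_neg.1 (mul_left_cancel₀ ha0 hr').symm with e | e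
    · simp [Units.ext e]
    · have : r = -s := Units.ext (by simpa using e)
      simp [this]
  have hsub : ∑ a' ∈ S, ∑ y, d a' 0 1 y ≤ massR d :=
    Finset.sum_le_sum_of_subset fun a' ha' => by
      obtain ⟨s, -, rfl⟩ := Finset.mem_image.1 ha'
      exact Finset.mem_erase.2 ⟨div_ne_zero ha0 (pow_ne_zero 2 s.ne_zero), Finset.mem_univ _⟩
  have h1 : S.card * Fintype.card F ≤ 3 * ∑ a' ∈ S, ∑ y, d a' 0 1 y := by
    rw [← smul_eq_mul, ← Finset.sum_const, Finset.mul_sum]
    exact Finset.sum_le_sum hrow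
  calc Fintype.card F * (Fintype.card F - 1) ≤ Fintype.card F * (2 * S.card) :=
        Nat.mul_le_mul_left _ hcard
    _ = 2 * (S.card * Fintype.card F) := by ring
    _ ≤ _ := by omega

end Cfsg.Agent.H53.G2
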