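import Cfsg.Agent.H53.G2.Long
import Cfsg.Agent.H53.G2.ThreeCount
import Cfsg.Agent.H53.G2.ThreeArith
import Cfsg.Agent.H37.Isog.Auto

/-!
Characteristic three: the minimal degree is at least `q⁴ + q² - 2`, with exact information on the
extremal case.
-/

set_option autoImplicit false
set_option linter.unusedSectionVars false

namespace Cfsg.Agent.H53.G2

open Module Cfsg.Agent.Symplectic Cfsg.Lie Cfsg.Agent.Chevalley
open scoped Classical

variable {F : Type*} [Field F] [Fintype F]

theorem three_zero [CharP F 3] : (3 : F) = 0 := by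
  exact_mod_cast CharP.cast_eq_zero F 3

theorem cube_surjective [CharP F 3] : ∀ x : F, ∃ y : F, y ^ 3 = x := by
  have : Fact (Nat.Prime 3) := ⟨Nat.prime_three⟩
  exact Finite.injective_iff_surjective.1 (frobenius F 3).injective

section Rep

variable [CharP F 3] {V : Type*} [AddCommGroup V] [Module ℂ V] [FiniteDimensional ℂ V]
  (ρ : Representation ℂ (G2Grp F) V)

theorem comm9_8' (t u : F) : X 9 u * X 8 t = X 8 t * X 9 u := by
  rw [comm9_8, three_zero, zero_mul, zero_mul, neg_zero, X_zero, mul_one]

theorem comm8_9' (t u : F) : X 8 u * X 9 t = X 9 t * X 8 u := by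
  rw [comm8_9, three_zero, zero_mul, zero_mul, X_zero, mul_one]

/-- multiplicity over a non-trivial character of the highest root subgroup -/
noncomputable def nn (C B t : F) : ℕ := finrank ℂ (Wt ρ [(8, C), (9, B), (11, t)])

/-- the same with the long root coordinate fixed -/
noncomputable def mm (C B t : F) : ℕ := finrank ℂ (Wt ρ [(6, (0 : F)), (8, C), (9, B), (11, t)])

theorem nn_mm {t : F} (ht : t ≠ 0) (C B : F) : nn ρ C B t = Fintype.card F * mm ρ C B t := by
  have le : ∀ β s : F, finrank ℂ (Wt ρ [(6, β), (8, C), (9, B), (11, t)]) ≤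
      finrank ℂ (Wt ρ [(6, β + t * s), (8, C), (9, B), (11, t)]) := by
    intro β s
    refine finrank_le_of_maps ρ (X 10 s) fun v hv => ?_
    simp only [mem_Wt, List.forall_mem_cons, List.not_mem_nil, false_implies, implies_true,
      and_true] at hv ⊢
    obtain ⟨h6, h8, h9, h11⟩ := hv
    refine ⟨fun u => move ρ (comm6_10 s u) ?_, fun u => ?_, fun u => ?_, fun u => ?_⟩
    · simp only [rho_mul_apply, h11, h6, map_smul, smul_smul, ← AddChar.map_add_eq_mul]
      congr 2; ring
    · exact move ρ (commute_X (by decide +kernel) (by decide) (by decide) (by decide) (by decide) s u)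
        (h8 u)
    · exact move ρ (commute_X (by decide +kernel) (by decide) (by decide) (by decide) (by decide) s u)
        (h9 u)
    · exact move ρ (commute_X (by decide +kernel) (by decide) (by decide) (by decide) (by decide) s u)
        (h11 u)
  have h : ∀ β : F, finrank ℂ (Wt ρ [(6, β), (8, C), (9, B), (11, t)]) = mm ρ C B t := by
    intro β
    refine le_antisymm ?_ ?_
    · have := le β (-β / t)
      rwa [show β + t * (-β / t) = 0 by field_simp; ring] at this
    · have := le 0 (β / t)
      rwa [show (0 : F) + t * (β / t) = β by field_simp; ring] at this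
  rw [nn, split ρ 6 _ (preserves_of_commute ρ 6 _ fun p hp s u => by
    simp only [List.mem_cons, List.not_mem_nil, or_false] at hp
    rcases hp with rfl | rfl | rfl <;> dsimp only <;>
      exact commute_X (by decide +kernel) (by decide) (by decide) (by decide) (by decide) u s)]
  simp [h]

theorem nn_X7 (C B t s : F) : nn ρ (C - s * B) B t = nn ρ C B t := by
  have le : ∀ C s : F, nn ρ C B t ≤ nn ρ (C - s * B) B t := by
    intro C s
    refine finrank_le_of_maps ρ (X 7 s) fun v hv => ?_
    simp only [mem_Wt, List.forall_mem_cons, List.not_mem_nil, false_implies, implies_true,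
      and_true] at hv ⊢
    obtain ⟨h8, h9, h11⟩ := hv
    refine ⟨fun u => move ρ (comm8_7 s u) ?_, fun u => move ρ (comm9_7 s u) ?_, fun u => ?_⟩
    · simp only [three_zero, zero_mul, neg_zero, X_zero, mul_one, rho_mul_apply, h9, h8, map_smul,
        smul_smul, ← AddChar.map_add_eq_mul]
      congr 2
      linear_combination (B * s * u) * (three_zero (F := F))
    · simp only [three_zero, zero_mul, neg_zero, X_zero, mul_one, h9]
    · exact move ρ (commute_X (by decide +kernel) (by decide) (by decide) (by decide) (by decide) s u)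
        (h11 u)
  refine le_antisymm ?_ (le C s)
  have := le (C - s * B) (-s)
  rwa [show C - s * B - -s * B = C by ring] at this

theorem nn_X4 (C B t s : F) : nn ρ C (B - s * C) t = nn ρ C B t := by
  have le : ∀ B s : F, nn ρ C B t ≤ nn ρ C (B - s * C) t := by
    intro B s
    refine finrank_le_of_maps ρ (X 4 s) fun v hv => ?_
    simp only [mem_Wt, List.forall_mem_cons, List.not_mem_nil, false_implies, implies_true,
      and_true] at hv ⊢
    obtain ⟨h8, h9, h11⟩ := hv
    have c8 : ∀ u : F, X 8 u * X 4 s = X 4 s * X 8 u := fun u => by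
      rw [comm [(6, -3, 1, 1)] (by decide +kernel) (by decide) (by decide) (by decide) (by decide)]
      simp [three_zero, X_zero]
    have c9 : ∀ u : F, X 9 u * X 4 s = X 4 s * (X 9 u * X 8 (-(s * u))) := fun u => by
      rw [comm [(8, -2, 1, 1), (6, 3, 2, 1), (11, -3, 1, 2)] (by decide +kernel) (by decide)
        (by decide) (by decide) (by decide)]
      simp only [List.map_cons, List.map_nil, List.prod_cons, List.prod_nil, Int.cast_neg,
        Int.cast_ofNat, three_zero, neg_zero, zero_mul, X_zero, mul_one, mul_assoc]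
      congr 3
      linear_combination (s * u) * (three_zero (F := F))
    refine ⟨fun u => move ρ (c8 u) (h8 u), fun u => move ρ (c9 u) ?_, fun u => ?_⟩
    · simp only [rho_mul_apply, h9, h8, map_smul, smul_smul, ← AddChar.map_add_eq_mul]
      congr 2; ring
    · exact move ρ (commute_X (by decide +kernel) (by decide) (by decide) (by decide) (by decide) s u)
        (h11 u)
  refine le_antisymm ?_ (le B s)
  have := le (B - s * C) (-s)
  rwa [show B - s * C - -s * C = B by ring] at this

theorem nn_hG (C B t c : F) (hc : c ≠ 0) : nn ρ (C * c) B (t * c) = nn ρ C B t := by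
  have h := finrank_map_eq ρ (hG 6 c⁻¹) (fun p : ℕ × F => (p.1, if p.1 = 9 then p.2 else p.2 * c))
    [(8, C), (9, B), (11, t)] ?_
  · refine (congrArg (fun W : Submodule ℂ V => finrank ℂ W) ?_).trans h
    simp
  · intro p hp
    simp only [List.mem_cons, List.not_mem_nil, or_false] at hp
    rcases hp with rfl | rfl | rfl
    · exact ⟨c⁻¹ ^ 1, pow_ne_zero _ (inv_ne_zero hc), by simp [hc],
        hG_scale 6 8 1 (by decide +kernel) hc⟩
    · exact ⟨c⁻¹ ^ 0, pow_ne_zero _ (inv_ne_zero hc), by simp,
        hG_scale 6 9 0 (by decide +kernel) hc⟩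
    · exact ⟨c⁻¹ ^ 1, pow_ne_zero _ (inv_ne_zero hc), by simp [hc],
        hG_scale 6 11 1 (by decide +kernel) hc⟩

theorem nn_zero {t : F} (ht : t ≠ 0) : nn ρ 0 0 t = Fintype.card F * mm ρ 0 0 1 := by
  rw [← nn_mm ρ one_ne_zero, ← nn_hG ρ 0 0 1 t ht, zero_mul, one_mul]

theorem nn_ne_zero {t C B : F} (ht : t ≠ 0) (h : ¬ (C = 0 ∧ B = 0)) :
    nn ρ C B t = Fintype.card F * mm ρ 1 0 1 := by
  rw [← nn_mm ρ one_ne_zero]
  have h0 : ∀ C : F, C ≠ 0 → ∀ B, nn ρ C B t = nn ρ C 0 t := fun C hC B => by
    rw [← nn_X4 ρ C B t (B / C), div_mul_cancel₀ B hC, sub_self]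
  have hc : ∀ C C' : F, C ≠ 0 → C' ≠ 0 → nn ρ C 0 t = nn ρ C' 0 t := fun C C' hC hC' => by
    rw [← h0 C hC 1, ← nn_X7 ρ C 1 t (C - C'), mul_one, sub_sub_cancel, h0 C' hC']
  have hfin : nn ρ C B t = nn ρ t 0 t := by
    rcases eq_or_ne C 0 with rfl | hC
    · have hB : B ≠ 0 := fun e => h ⟨rfl, e⟩
      rw [← nn_X7 ρ 0 B t (-t / B), show (0 : F) - -t / B * B = t by field_simp; ring, h0 t ht]
    · rw [h0 C hC, hc C t hC ht]
  rw [hfin, ← nn_hG ρ 1 0 1 t ht, one_mul]

/-- the total multiplicity above a non-trivial character, divided by `q` -/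
noncomputable def MM : ℕ := mm ρ 0 0 1 + (Fintype.card F ^ 2 - 1) * mm ρ 1 0 1

theorem sum_mm {t : F} (ht : t ≠ 0) : ∑ p : F × F, mm ρ p.2 p.1 t = MM ρ := by
  have hcancel : ∀ a b : ℕ, Fintype.card F * a = Fintype.card F * b → a = b := fun a b =>
    Nat.eq_of_mul_eq_mul_left Fintype.card_pos
  rw [← Finset.add_sum_erase _ _ (Finset.mem_univ ((0 : F), (0 : F))),
    hcancel _ _ ((nn_mm ρ ht 0 0).symm.trans (nn_zero ρ ht)),
    Finset.sum_congr rfl fun p hp => hcancel _ _ ((nn_mm ρ ht p.2 p.1).symm.trans (nn_ne_zero ρ ht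
      fun e => Finset.ne_of_mem_erase hp (Prod.ext e.2 e.1))),
    Finset.sum_const, Finset.card_erase_of_mem (Finset.mem_univ _), Finset.card_univ,
    Fintype.card_prod, smul_eq_mul, ← pow_two]
  rfl

theorem finrank_t {t : F} (ht : t ≠ 0) :
    finrank ℂ (Wt ρ [(11, t)]) = Fintype.card F * MM ρ := by
  rw [← sum_mm ρ ht, Fintype.sum_prod_type, Finset.mul_sum,
    split ρ 9 [(11, t)] (preserves_of_commute ρ 9 _ fun p hp s u => by
      simp only [List.mem_singleton] at hp
      subst hp
      dsimp only
      exact commute_X (by decide +kernel) (by decide) (by decide) (by decide) (by decide) u s)]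
  refine Finset.sum_congr rfl fun B _ => ?_
  rw [Finset.mul_sum, split ρ 8 _ (preserves_of_commute ρ 8 _ fun p hp s u => by
    simp only [List.mem_cons, List.not_mem_nil, or_false] at hp
    rcases hp with rfl | rfl <;> dsimp only
    · exact comm9_8' u s
    · exact commute_X (by decide +kernel) (by decide) (by decide) (by decide) (by decide) u s)]
  exact Finset.sum_congr rfl fun C _ => nn_mm ρ ht C B

theorem finrank_t6 {t : F} (ht : t ≠ 0) :
    finrank ℂ (Wt ρ [(11, t), (6, (0 : F))]) = MM ρ := by
  rw [← sum_mm ρ ht, Fintype.sum_prod_type,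
    split ρ 9 _ (preserves_of_commute ρ 9 _ fun p hp s u => by
      simp only [List.mem_cons, List.not_mem_nil, or_false] at hp
      rcases hp with rfl | rfl <;> dsimp only <;>
        exact commute_X (by decide +kernel) (by decide) (by decide) (by decide) (by decide) u s)]
  refine Finset.sum_congr rfl fun B _ => ?_
  rw [split ρ 8 _ (preserves_of_commute ρ 8 _ fun p hp s u => by
    simp only [List.mem_cons, List.not_mem_nil, or_false] at hp
    rcases hp with rfl | rfl | rfl <;> dsimp only
    · exact comm9_8' u s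
    all_goals exact commute_X (by decide +kernel) (by decide) (by decide) (by decide) (by decide) u s)]
  exact Finset.sum_congr rfl fun C _ => congrArg (fun W : Submodule ℂ V => finrank ℂ W)
    (Wt_congr ρ fun p => by simp only [List.mem_cons, List.not_mem_nil, or_false]; tauto)

theorem finrank_t9 {t : F} (ht : t ≠ 0) : finrank ℂ (Wt ρ [(11, t), (9, (0 : F))]) =
    Fintype.card F * (mm ρ 0 0 1 + (Fintype.card F - 1) * mm ρ 1 0 1) := by
  rw [split ρ 8 _ (preserves_of_commute ρ 8 _ fun p hp s u => by
    simp only [List.mem_cons, List.not_mem_nil, or_false] at hp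
    rcases hp with rfl | rfl <;> dsimp only
    · exact commute_X (by decide +kernel) (by decide) (by decide) (by decide) (by decide) u s
    · exact comm9_8' u s)]
  have e : ∀ C : F, finrank ℂ (Wt ρ [(8, C), (11, t), (9, (0 : F))]) = nn ρ C 0 t := fun C =>
    congrArg (fun W : Submodule ℂ V => finrank ℂ W)
      (Wt_congr ρ fun p => by simp only [List.mem_cons, List.not_mem_nil, or_false]; tauto)
  simp only [e]
  rw [← Finset.add_sum_erase _ _ (Finset.mem_univ (0 : F)), nn_zero ρ ht,
    Finset.sum_congr rfl fun C hC => nn_ne_zero ρ ht fun h => Finset.ne_of_mem_erase hC h.1,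
    Finset.sum_const, Finset.card_erase_of_mem (Finset.mem_univ _), Finset.card_univ, smul_eq_mul]
  ring

theorem finrank_fix6 :
    finrank ℂ (Wt ρ [(6, (0 : F))]) =
      (∑ B, ∑ C, ∑ a, dC ρ a B C 0) + (Fintype.card F - 1) * MM ρ := by
  rw [split ρ 11 [(6, (0 : F))] (preserves_of_commute ρ 11 _ fun p hp s u => by
    simp only [List.mem_singleton] at hp
    subst hp
    dsimp only
    exact commute_X (by decide +kernel) (by decide) (by decide) (by decide) (by decide) u s),
    ← Finset.add_sum_erase _ _ (Finset.mem_univ (0 : F)),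
    Finset.sum_congr rfl fun t ht => finrank_t6 ρ (Finset.ne_of_mem_erase ht),
    Finset.sum_const, Finset.card_erase_of_mem (Finset.mem_univ _), Finset.card_univ, smul_eq_mul]
  congr 1
  rw [split ρ 9 _ (preserves_mod ρ 9 _ (by simp) (by
    intro p hp s u
    simp only [List.mem_cons, List.not_mem_nil, or_false] at hp
    rcases hp with rfl | rfl <;> dsimp only <;>
      exact commuteEx (by decide +kernel) (by decide) (by decide) (by decide) (by decide) u s))]
  refine Finset.sum_congr rfl fun B _ => ?_
  rw [split ρ 8 _ (preserves_mod ρ 8 _ (by simp) (by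
    intro p hp s u
    simp only [List.mem_cons, List.not_mem_nil, or_false] at hp
    rcases hp with rfl | rfl | rfl
    · exact ⟨_, comm9_8 u s⟩
    all_goals dsimp only
    all_goals exact commuteEx (by decide +kernel) (by decide) (by decide) (by decide) (by decide) u s))]
  refine Finset.sum_congr rfl fun C _ => ?_
  rw [split ρ 10 _ (preserves_mod ρ 10 _ (by simp) (by
    intro p hp s u
    simp only [List.mem_cons, List.not_mem_nil, or_false] at hp
    rcases hp with rfl | rfl | rfl | rfl
    iterate 3
      dsimp only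
      exact commuteEx (by decide +kernel) (by decide) (by decide) (by decide) (by decide) u s
    exact ⟨_, comm6_10 u s⟩)), ← Equiv.sum_comp (Equiv.neg F)]
  exact Finset.sum_congr rfl fun a _ => congrArg (fun W : Submodule ℂ V => finrank ℂ W)
    (Wt_congr ρ fun p => by
      simp only [List.mem_cons, List.not_mem_nil, or_false, Equiv.neg_apply]; tauto)

theorem finrank_fix9 :
    finrank ℂ (Wt ρ [(9, (0 : F))]) = (∑ C, ∑ a, ∑ D, dC ρ a 0 C D) +
      (Fintype.card F - 1) * (Fintype.card F * (mm ρ 0 0 1 + (Fintype.card F - 1) * mm ρ 1 0 1)) := by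
  rw [split ρ 11 [(9, (0 : F))] (preserves_of_commute ρ 11 _ fun p hp s u => by
    simp only [List.mem_singleton] at hp
    subst hp
    dsimp only
    exact commute_X (by decide +kernel) (by decide) (by decide) (by decide) (by decide) u s),
    ← Finset.add_sum_erase _ _ (Finset.mem_univ (0 : F)),
    Finset.sum_congr rfl fun t ht => finrank_t9 ρ (Finset.ne_of_mem_erase ht),
    Finset.sum_const, Finset.card_erase_of_mem (Finset.mem_univ _), Finset.card_univ, smul_eq_mul]
  congr 1
  rw [split ρ 8 _ (preserves_mod ρ 8 _ (by simp) (by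
    intro p hp s u
    simp only [List.mem_cons, List.not_mem_nil, or_false] at hp
    rcases hp with rfl | rfl
    · dsimp only
      exact commuteEx (by decide +kernel) (by decide) (by decide) (by decide) (by decide) u s
    · exact ⟨_, comm9_8 u s⟩))]
  refine Finset.sum_congr rfl fun C _ => ?_
  rw [split ρ 10 _ (preserves_mod ρ 10 _ (by simp) (by
    intro p hp s u
    simp only [List.mem_cons, List.not_mem_nil, or_false] at hp
    rcases hp with rfl | rfl | rfl <;> dsimp only <;>
      exact commuteEx (by decide +kernel) (by decide) (by decide) (by decide) (by decide) u s)),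
    ← Equiv.sum_comp (Equiv.neg F)]
  refine Finset.sum_congr rfl fun a _ => ?_
  rw [split ρ 6 _ (preserves_mod ρ 6 _ (by simp) (by
    intro p hp s u
    simp only [List.mem_cons, List.not_mem_nil, or_false, Equiv.neg_apply] at hp
    rcases hp with rfl | rfl | rfl | rfl
    · exact ⟨_, comm10_6 u s⟩
    all_goals dsimp only
    all_goals exact commuteEx (by decide +kernel) (by decide) (by decide) (by decide) (by decide) u s))]
  exact Finset.sum_congr rfl fun D _ => congrArg (fun W : Submodule ℂ V => finrank ℂ W)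
    (Wt_congr ρ fun p => by
      simp only [List.mem_cons, List.not_mem_nil, or_false, Equiv.neg_apply]; tauto)

/-- the numerical profile of a representation -/
noncomputable def profile : Profile where
  f := dC ρ 0 0 0 0
  e := dC ρ 0 0 0 1
  L := lineL (dC ρ)
  R := massR (dC ρ)
  R0 := massR0 (dC ρ)
  m0 := mm ρ 0 0 1
  m1 := mm ρ 1 0 1

theorem profile_V0 {u : ℕ} (hu : Fintype.card F = u + 1) :
    finrank ℂ (Wt ρ [(11, (0 : F))]) = (profile ρ).V0 u := by
  rw [finrank_fix11, sum_all (dC_inv ρ) three_zero cube_surjective, Profile.V0, hu,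
    show (u + 1) ^ 2 - 1 = u * (u + 2) by
      rw [show (u + 1) ^ 2 = u * (u + 2) + 1 by ring]; rfl]
  rfl

theorem profile_M {u : ℕ} (hu : Fintype.card F = u + 1) : (profile ρ).M u = MM ρ := by
  rw [MM, hu, show (u + 1) ^ 2 - 1 = u * (u + 2) by
    rw [show (u + 1) ^ 2 = u * (u + 2) + 1 by ring]; rfl]
  rfl

theorem profile_short {u : ℕ} (hu : Fintype.card F = u + 1) :
    finrank ℂ (Wt ρ [(9, (0 : F))]) = (profile ρ).short u := by
  rw [finrank_fix9, sum_slice_B (dC_inv ρ) three_zero cube_surjective, Profile.short, hu,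
    show (u + 1) ^ 2 - 1 = u * (u + 2) by
      rw [show (u + 1) ^ 2 = u * (u + 2) + 1 by ring]; rfl,
    Nat.add_sub_cancel]
  rfl

theorem profile_valid [ρ.IsIrreducible] (hV : 2 ≤ finrank ℂ V) (hq : 3 ≤ Fintype.card F) {u : ℕ}
    (hu : Fintype.card F = u + 1) : (profile ρ).Valid u (finrank ℂ V) := by
  have htot : finrank ℂ V =
      finrank ℂ (Wt ρ [(11, (0 : F))]) + (Fintype.card F - 1) * (Fintype.card F * MM ρ) := by
    have h := split ρ 11 ([] : List (ℕ × F)) (by rw [Wt_nil]; intros; trivial)
    rw [Wt_nil, finrank_top] at h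
    rw [h, ← Finset.add_sum_erase _ _ (Finset.mem_univ (0 : F)),
      Finset.sum_congr rfl fun t ht => finrank_t ρ (Finset.ne_of_mem_erase ht),
      Finset.sum_const, Finset.card_erase_of_mem (Finset.mem_univ _), Finset.card_univ, smul_eq_mul]
  have hR := massR0_bound (dC_inv ρ) (three_zero (F := F))
  have hR2 := massR_lower (dC_inv ρ) (three_zero (F := F))
  rw [hu] at hR hR2
  rw [Nat.add_sub_cancel] at hR2
  refine ⟨?_, ?_, ?_, hR, hR2⟩
  · rw [htot, profile_V0 ρ hu, profile_M ρ hu, hu, Nat.add_sub_cancel]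
  · have hconj : finrank ℂ (Wt ρ [(6, (0 : F))]) = finrank ℂ (Wt ρ [(11, (0 : F))]) :=
      (finrank_map_moves ρ nA 6 10 (nA_moves 6 10 (by decide) (by decide +kernel))).trans
        (finrank_map_moves ρ nB 10 11 (nB_moves 10 11 (by decide) (by decide +kernel)))
    rw [finrank_fix6, sum_slice_D (dC_inv ρ) three_zero cube_surjective, profile_V0 ρ hu,
      ← profile_M ρ hu, hu, Nat.add_sub_cancel] at hconj
    exact hconj
  · rw [profile_M ρ hu]
    by_contra h
    rw [Nat.eq_zero_of_not_pos h, mul_zero, mul_zero, add_zero] at htot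
    obtain ⟨t, v, hv⟩ := exists_moved ρ hV hq (show 11 < 12 by decide)
    have hm : v ∈ Wt ρ [(11, (0 : F))] := by
      rw [Submodule.eq_top_of_finrank_eq htot.symm]; exact Submodule.mem_top
    exact hv (by simpa using hm (11, 0) (by simp) t)

/-- lines of pure long root weights are fixed by the dual of the radical -/
theorem lines_fixed (hq : 3 ≤ Fintype.card F) (he : dC ρ 0 0 0 1 = 1) :
    Fintype.card F - 1 ≤
      finrank ℂ (Wt ρ (([7, 10, 11, 8, 9] : List ℕ).map fun s => (s, (0 : F)))) := by
  have hD : ∀ D : F, D ≠ 0 → dC ρ 0 0 0 D = 1 := fun D hD => by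
    rw [← he]
    simpa using (dC_inv ρ).hS 0 0 0 1 D hD
  have hsub : ∀ D ∈ Finset.univ.erase (0 : F),
      Wt ρ [(6, D), (8, 0), (9, 0), (10, 0), (11, (0 : F))] ≤
        Wt ρ (([7, 10, 11, 8, 9] : List ℕ).map fun s => (s, (0 : F))) := by
    intro D hDm v hv
    set W := Wt ρ [(6, D), (8, 0), (9, 0), (10, 0), (11, (0 : F))] with hW
    have hdim : finrank ℂ W = 1 := by
      rw [← hD D (Finset.ne_of_mem_erase hDm), dC, neg_zero]
    have h7 : ∀ t, ρ (X 7 t) v = v := by
      intro t
      rcases eq_or_ne v 0 with rfl | hv0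
      · rw [map_zero]
      have hline : ∀ w ∈ W, ∃ x : ℂ, w = x • v := fun w hw => by
        obtain ⟨x, hx⟩ := (finrank_eq_one_iff_of_nonzero' (⟨v, hv⟩ : W)
          (fun e => hv0 (congrArg Subtype.val e))).1 hdim ⟨w, hw⟩
        exact ⟨x, (congrArg Subtype.val hx).symm⟩
      have hv' := hv
      simp only [hW, mem_Wt, List.forall_mem_cons, List.not_mem_nil, false_implies, implies_true,
        and_true, zero_mul, AddChar.map_zero_eq_one, one_smul] at hv'
      obtain ⟨g6, g8, g9, g10, g11⟩ := hv'
      refine char_trivial ρ hq hv0 7 (fun s => hline _ ?_) (fun c hc => ⟨hG 9 c, hline _ ?_, ?_⟩) t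
      · simp only [hW, mem_Wt, List.forall_mem_cons, List.not_mem_nil, false_implies, implies_true,
          and_true]
        refine ⟨fun u => move ρ (comm6_7 s u) ?_, fun u => move ρ (comm8_7 s u) ?_,
          fun u => move ρ (comm9_7 s u) ?_,
          fun u => move ρ (commute_X (by decide +kernel) (by decide) (by decide) (by decide)
            (by decide) s u) ?_,
          fun u => move ρ (commute_X (by decide +kernel) (by decide) (by decide) (by decide)
            (by decide) s u) ?_⟩ <;>
        simp [g6, g8, g9, g10, g11]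
      · simp only [hW, mem_Wt, List.forall_mem_cons, List.not_mem_nil, false_implies, implies_true,
          and_true, zero_mul, AddChar.map_zero_eq_one, one_smul]
        refine ⟨fun u => move ρ (y := X 6 u) ?_ (g6 u),
          moves_fixed ρ (hG_moves 9 8 (by decide) (by decide) hc) g8,
          moves_fixed ρ (hG_moves 9 9 (by decide) (by decide) hc) g9,
          moves_fixed ρ (hG_moves 9 10 (by decide) (by decide) hc) g10,
          moves_fixed ρ (hG_moves 9 11 (by decide) (by decide) hc) g11⟩
        simpa using hG_conj (r := 9) (s := 6) (0 : ℤ) (by decide +kernel) (by decide) (by decide)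
          (Units.mk0 c hc) u
      · intro s
        simpa using hG_conj (r := 9) (s := 7) (1 : ℤ) (by decide +kernel) (by decide) (by decide)
          (Units.mk0 c hc) s
    simp only [hW, mem_Wt, List.forall_mem_cons, List.not_mem_nil, false_implies, implies_true,
      and_true, zero_mul, AddChar.map_zero_eq_one, one_smul] at hv
    simp [mem_Wt, h7, hv]
  have := sum_le ρ 6 [(8, (0 : F)), (9, 0), (10, 0), (11, 0)]
    (([7, 10, 11, 8, 9] : List ℕ).map fun s => (s, (0 : F))) (preserves6 ρ 0 0 0)
    (Finset.univ.erase 0) hsub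
  rwa [Finset.sum_congr rfl (g := fun _ => 1) (fun D hDm => by
      rw [← hD D (Finset.ne_of_mem_erase hDm), dC, neg_zero]),
    Finset.sum_const, Finset.card_erase_of_mem (Finset.mem_univ _), Finset.card_univ, smul_eq_mul,
    mul_one] at this

end Rep

section Twist

variable [CharP F 3]

/-- fixed spaces of root subgroups in the representation twisted by the graph automorphism -/
theorem exists_twist : ∃ α : G2Grp F ≃* G2Grp F, ∀ (r : ℕ), r < 12 → ∀ t : F,
    α (X r t) = X (H37.Isog.dataG2.rh r) (t ^ H37.Isog.dataG2.lm r) := by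
  obtain ⟨α, hα⟩ := H37.Isog.autoG2 (F := F) cube_surjective
  refine ⟨α, fun r hr t => Subtype.ext ?_⟩
  exact (Cert.eq_xU_iff Chevalley.G2.cert F _ _ _).1
    (hα (X r t) r t hr (Cert.coe_xU Chevalley.G2.cert F r t))

theorem lm_values : ∀ r < 12, H37.Isog.dataG2.lm r = 1 ∨ H37.Isog.dataG2.lm r = 3 := by
  decide +kernel

theorem twist_fix {V : Type*} [AddCommGroup V] [Module ℂ V] [FiniteDimensional ℂ V]
    (ρ ρ' : Representation ℂ (G2Grp F) V) (α : G2Grp F ≃* G2Grp F)
    (hα : ∀ r < 12, ∀ t : F, α (X r t) = X (H37.Isog.dataG2.rh r) (t ^ H37.Isog.dataG2.lm r))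
    (hρ : ∀ g, ρ' g = ρ (α g)) (R R' : List ℕ) (hR : ∀ r ∈ R, r < 12)
    (hR' : R.map H37.Isog.dataG2.rh = R') :
    Wt ρ' (R.map fun s => (s, (0 : F))) = Wt ρ (R'.map fun s => (s, (0 : F))) := by
  subst hR'
  ext v
  simp only [mem_Wt, List.forall_mem_map, zero_mul, AddChar.map_zero_eq_one, one_smul]
  refine forall₂_congr fun r hr => ⟨fun h t => ?_, fun h t => by rw [hρ, hα r (hR r hr)]; exact h _⟩
  obtain ⟨y, rfl⟩ : ∃ y, y ^ H37.Isog.dataG2.lm r = t := by
    rcases lm_values r (hR r hr) with e | e <;> rw [e]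
    · exact ⟨t, pow_one t⟩
    · exact cube_surjective t
  rw [← hα r (hR r hr), ← hρ]
  exact h y

theorem irreducible_twist {V : Type*} [AddCommGroup V] [Module ℂ V]
    (ρ : Representation ℂ (G2Grp F) V) [ρ.IsIrreducible] (α : G2Grp F ≃* G2Grp F) :
    Representation.IsIrreducible
      (MonoidHom.comp ρ α.toMonoidHom : Representation ℂ (G2Grp F) V) := by
  have h : ∀ (W : Subrepresentation (MonoidHom.comp ρ α.toMonoidHom : Representation ℂ (G2Grp F) V))
      (g : G2Grp F), ∀ w ∈ W.toSubmodule, ρ g w ∈ W.toSubmodule := fun W g w hw => by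
    have := W.apply_mem_toSubmodule (α.symm g) hw
    simpa using this
  let e : Subrepresentation (MonoidHom.comp ρ α.toMonoidHom : Representation ℂ (G2Grp F) V) ≃o
      Subrepresentation ρ :=
    { toFun := fun W => ⟨W.toSubmodule, fun g w hw => h W g w hw⟩
      invFun := fun W => ⟨W.toSubmodule, fun g w hw => W.apply_mem_toSubmodule (α g) hw⟩
      left_inv := fun W => rfl
      right_inv := fun W => rfl
      map_rel_iff' := Iff.rfl }
  exact e.isSimpleOrder_iff.2 inferInstance

/-- the bound in characteristic three, up to the three degrees ruled out by divisibility -/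
theorem degree_three {V : Type*} [AddCommGroup V] [Module ℂ V] [FiniteDimensional ℂ V]
    (ρ : Representation ℂ (G2Grp F) V) [ρ.IsIrreducible] (hV : 2 ≤ finrank ℂ V)
    (hq : 9 ≤ Fintype.card F) :
    Fintype.card F ^ 4 + Fintype.card F ^ 2 ≤ finrank ℂ V + 2 := by
  obtain ⟨α, hα⟩ := exists_twist (F := F)
  let ρ' : Representation ℂ (G2Grp F) V := MonoidHom.comp ρ α.toMonoidHom
  have hρ : ∀ g, ρ' g = ρ (α g) := fun _ => rfl
  have : ρ'.IsIrreducible := irreducible_twist ρ α
  obtain ⟨u, hu⟩ : ∃ u, Fintype.card F = u + 1 := ⟨Fintype.card F - 1, by omega⟩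
  have key := Profile.bound (profile_valid ρ hV (by omega) hu) (profile_valid ρ' hV (by omega) hu)
    ?_ ?_ (by omega)
  rotate_left
  · rw [← profile_V0 ρ' hu, ← profile_short ρ hu]
    exact congrArg (fun W : Submodule ℂ V => finrank ℂ W)
      (twist_fix ρ ρ' α hα hρ [11] [9] (by decide) (by decide +kernel))
  · rw [← profile_V0 ρ hu, ← profile_short ρ' hu]
    exact congrArg (fun W : Submodule ℂ V => finrank ℂ W)
      (twist_fix ρ ρ' α hα hρ [9] [11] (by decide) (by decide +kernel)).symm
  rw [hu]
  rcases key with h | ⟨he, -, hf, hk⟩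
  · omega
  · have h := lines_fixed ρ (by omega) he
    rw [← twist_fix ρ ρ' α hα hρ [6, 8, 9, 10, 11] [7, 10, 11, 8, 9] (by decide) (by decide +kernel)]
      at h
    have hf' : finrank ℂ (Wt ρ' (([6, 8, 9, 10, 11] : List ℕ).map fun s => (s, (0 : F)))) =
        (profile ρ').f := by
      show _ = finrank ℂ (Wt ρ' [(6, (0 : F)), (8, 0), (9, 0), (10, -0), (11, 0)])
      rw [neg_zero]
      rfl
    rw [hf', ← hf] at h
    omega

end Twist

end Cfsg.Agent.H53.G2
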