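import Cfsg.Agent.H53.G2.Long
import Cfsg.Agent.H53.G2.Three
import Cfsg.Agent.S1059
import Cfsg.Agent.S0135

/-!
The minimal degree of `G₂(q)`.
-/

set_option autoImplicit false
set_option linter.unusedSectionVars false

namespace Cfsg.Agent.H53.G2

open Module Cfsg.Lie

variable {F : Type*} [Field F] [Fintype F]

theorem three_ne_zero_of_mod (h : Fintype.card F % 3 ≠ 0) : (3 : F) ≠ 0 := by
  intro h0
  obtain ⟨p, hchar⟩ := CharP.exists F
  obtain ⟨n, hp, hn⟩ := FiniteField.card F p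
  have h3 : p ∣ 3 := (CharP.cast_eq_zero_iff F p 3).1 (by exact_mod_cast h0)
  obtain rfl : p = 3 := (Nat.prime_dvd_prime_iff_eq hp Nat.prime_three).1 h3
  refine h (Nat.mod_eq_zero_of_dvd ?_)
  rw [hn]
  exact dvd_pow_self 3 n.pos.ne'

theorem exists_not_cube (h : Fintype.card F % 3 = 1) : ∃ g : F, ∀ x : F, x ^ 3 ≠ g := by
  classical
  by_contra hc
  push Not at hc
  have hinj : Function.Injective fun x : F => x ^ 3 :=
    Finite.injective_iff_surjective.2 fun g => hc g
  have hdvd : 3 ∣ Fintype.card Fˣ := by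
    rw [Fintype.card_units]; omega
  have : Fact (Nat.Prime 3) := ⟨Nat.prime_three⟩
  obtain ⟨ω, hω⟩ := exists_prime_orderOf_dvd_card 3 hdvd
  have h1 : (ω : F) ^ 3 = (1 : F) ^ 3 := by
    rw [one_pow, ← Units.val_pow_eq_pow_val, ← hω, pow_orderOf_eq_one, Units.val_one]
  have h2 : ω = 1 := Units.ext (hinj h1)
  rw [h2, orderOf_one] at hω
  omega

theorem g2_min_degree (k : ℕ) (ρ : Representation ℂ (chevG2.group F) (Fin k → ℂ))
    (hρ : ρ.IsIrreducible) (hk : 2 ≤ k) :
    (Fintype.card F % 3 = 1 → 4 < Fintype.card F → Fintype.card F ^ 3 + 1 ≤ k) ∧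
    (Fintype.card F % 3 = 2 → 2 < Fintype.card F → Fintype.card F ^ 3 - 1 ≤ k) ∧
    (Fintype.card F % 3 = 0 → 3 < Fintype.card F →
      Fintype.card F ^ 4 + Fintype.card F ^ 2 + 1 ≤ k) := by
  have hV : 2 ≤ finrank ℂ (Fin k → ℂ) := by rwa [finrank_fin_fun]
  refine ⟨fun h hq => ?_, fun h hq => ?_, fun h hq => ?_⟩
  · exact degree_gt_cube ρ hk (by omega) (three_ne_zero_of_mod (by omega)) (exists_not_cube h)
  · classical
    have h5 := long_bound ρ hV (show 5 ≤ Fintype.card F by omega) (three_ne_zero_of_mod (by omega))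
    rw [finrank_fin_fun] at h5
    omega
  · obtain ⟨p, hchar⟩ := CharP.exists F
    obtain ⟨n, hp, hn⟩ := FiniteField.card F p
    obtain rfl : p = 3 := (Nat.prime_dvd_prime_iff_eq Nat.prime_three hp).1
      (Nat.prime_three.dvd_of_dvd_pow (hn ▸ Nat.dvd_of_mod_eq_zero h)) |>.symm
    have h9 : 9 ≤ Fintype.card F := by
      rw [hn] at hq ⊢
      have h2 : 2 ≤ (n : ℕ) := by
        by_contra h2
        rw [show (n : ℕ) = 1 by have := n.pos; omega, pow_one] at hq
        omega
      exact le_trans (by norm_num) (Nat.pow_le_pow_right (by norm_num) h2)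
    have hb := degree_three ρ hV h9
    rw [finrank_fin_fun] at hb
    by_contra hlt
    have hd := Cfsg.Agent.S0135.result ρ
    rw [finrank_fin_fun, Cfsg.Agent.S1059.result rfl] at hd
    exact Profile.no_divisor h9 (by omega) hd

end Cfsg.Agent.H53.G2
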