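import Cfsg.Agent.H53.G2.LongWeights

/-!
Characteristic not three, a cubic non-residue exists: the degree exceeds `q³`.
-/

set_option autoImplicit false
set_option linter.unusedSectionVars false

namespace Cfsg.Agent.H53.G2

open Module Cfsg.Agent.Symplectic Cfsg.Lie Cfsg.Agent.Chevalley
open scoped Classical

variable {F : Type*} [Field F] [Fintype F]

section General

variable {V : Type*} [AddCommGroup V] [Module ℂ V] [FiniteDimensional ℂ V]
  (ρ : Representation ℂ (G2Grp F) V)

theorem av_commute (r s : ℕ) (h : ∀ t u : F, X r t * X s u = X s u * X r t) (v : V) :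
    av ρ r (av ρ s v) = av ρ s (av ρ r v) := by
  simp only [av_apply, map_smul, map_sum, ← Finset.smul_sum]
  rw [Finset.sum_comm]
  congr 2
  refine Finset.sum_congr rfl fun s' _ => Finset.sum_congr rfl fun r' _ => ?_
  rw [← rho_mul_apply, h, rho_mul_apply]

/-- the average over the two long roots moved by `b` -/
noncomputable def avW (v : V) : V := av ρ 10 (av ρ 11 v)

theorem avW_absorb (s : F) (v : V) : avW ρ (ρ (X 10 s) v) = avW ρ v := by
  rw [avW, avW, ← av_moves ρ (moves_self_of_commute (r := 10) (s := 11) (by decide +kernel)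
    (by decide) (by decide) (by decide) (by decide) s), av_absorb]

theorem avW_X5 (u : F) (v : V) : avW ρ (ρ (X 5 u) v) = ρ (X 5 u) (avW ρ v) := by
  have hm : Moves (X 5 u : G2Grp F) 10 10 := moves_self_of_commute (by decide +kernel)
    (by decide) (by decide) (by decide) (by decide) u
  simp only [avW, av_apply ρ 11, map_smul, map_sum]
  congr 1
  refine Finset.sum_congr rfl fun t _ => ?_
  have e : X 11 t * X 5 u = X 5 u * (X 10 (-(u * t)) * X 11 t) := by
    rw [comm11_5 u t, commute_X (r := 10) (s := 11) (by decide +kernel) (by decide) (by decide)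
      (by decide) (by decide)]
  rw [← rho_mul_apply, e, rho_mul_apply, rho_mul_apply, ← av_moves ρ hm, av_absorb]

/-- the fixed space of the root subgroups `10` and `11` -/
noncomputable def WW : Submodule ℂ V := Wt ρ [(10, (0 : F)), (11, 0)]

theorem mem_WW {v : V} :
    v ∈ WW ρ ↔ (∀ t, ρ (X 10 t) v = v) ∧ ∀ t, ρ (X 11 t) v = v := by
  simp [WW, mem_Wt]

theorem WW_X5 : ∀ u, ∀ v ∈ WW ρ, ρ (X 5 u) v ∈ WW ρ :=
  fix_preserves ρ 5 [10, 11] (by decide) (by decide +kernel)

theorem avW_of_mem {v : V} (hv : v ∈ WW ρ) : avW ρ v = v := by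
  rw [mem_WW] at hv
  rw [avW, av_of_fixed ρ 11 hv.2, av_of_fixed ρ 10 hv.1]

theorem av6_mem {v : V} (hv : v ∈ WW ρ) :
    av ρ 6 v ∈ Wt ρ [(6, (0 : F)), (10, 0), (11, 0)] := by
  rw [mem_Wt_cons]
  refine ⟨fun t => pr_eig ρ 6 0 v t, ?_⟩
  exact pr_mem ρ 6 0 (preserves_mod ρ 6 _ (by simp) (by
    intro p hp s t
    simp only [List.mem_cons, List.not_mem_nil, or_false] at hp
    rcases hp with rfl | rfl
    · exact ⟨_, comm10_6 t s⟩
    · dsimp only
      exact commuteEx (by decide +kernel) (by decide) (by decide) (by decide) (by decide) t s)) hv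

theorem avW_opp {v : V} (hv : v ∈ WW ρ) {s : F} (hs : s ≠ 0) :
    avW ρ (ρ (X 1 s) v) = av ρ 10 (ρ (nG 10 (-s⁻¹)) (av ρ 6 v)) := by
  have h := (mem_WW ρ).1 hv
  rw [show X 1 s = X (11 - 10) s from rfl, X_opp 10, rho_mul_apply, rho_mul_apply, h.1,
    avW_absorb, avW, ← av_moves ρ (nG_ten_moves (neg_ne_zero.2 (inv_ne_zero hs))).1]

theorem avW_opp11 {v : V} (hv : v ∈ WW ρ) (h5 : av ρ 5 v = 0) {t : F} (ht : t ≠ 0) :
    avW ρ (ρ (X 0 t) v) = 0 := by
  have h := (mem_WW ρ).1 hv
  rw [show X 0 t = X (11 - 11) t from rfl, X_opp 11, rho_mul_apply, rho_mul_apply, h.2,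
    avW, av_absorb, av_commute ρ 10 11 (fun a b => commute_X (by decide +kernel) (by decide)
      (by decide) (by decide) (by decide) b a),
    ← av_moves ρ (nG_eleven_moves (neg_ne_zero.2 (inv_ne_zero ht))), h5, map_zero, map_zero]

/-- the commutator of opposite long root subgroups as a shift along `-b` -/
theorem avW_pair {w : V} {a : F} (h5 : ∀ r, ρ (X 5 r) w = eChar F (a * r) • w) {s : F}
    (hs : s ≠ 0) :
    ∑ t, avW ρ (ρ (X 1 s) (ρ (X 0 t) w)) =
      (Fintype.card F : ℂ) • pr ρ 5 a (avW ρ (ρ (X 1 s) w)) := by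
  rw [pr_apply, smul_smul, mul_inv_cancel₀ cardF_ne, one_smul]
  refine Fintype.sum_equiv (Equiv.trans (Equiv.mulRight₀ s⁻¹ (inv_ne_zero hs)) (Equiv.neg F)) _ _
    fun t => ?_
  have e : X 1 s * X 0 t = X 5 (-(t * s⁻¹)) * (X 1 s * X 5 (t * s⁻¹)) := by
    rw [comm1_5, ← mul_assoc, ← mul_assoc, X_add, neg_add_cancel, X_zero, one_mul,
      mul_assoc t, inv_mul_cancel₀ hs, mul_one]
  rw [← rho_mul_apply, e, rho_mul_apply, rho_mul_apply, h5, avW_X5]
  simp only [Equiv.trans_apply, Equiv.mulRight₀_apply, Equiv.neg_apply, mul_neg, neg_neg]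
  simp only [avW, map_smul]

/-- a vector killed on a non-cubic line gives a relation between the averages -/
theorem key_relation {w : V} (hw : w ∈ WW ρ) {a : F} (ha : a ≠ 0)
    (h5 : ∀ r, ρ (X 5 r) w = eChar F (a * r) • w)
    (hH3 : ∀ A : F, A ≠ 0 → ∃ δ : F, δ ≠ 0 ∧ Wt ρ [(6, δ), (10, A), (11, 0)] = ⊥) :
    ∃ δ : F, δ ≠ 0 ∧ w + ∑ s ∈ Finset.univ.erase (0 : F), eChar F (-(δ * s)) •
      ((Fintype.card F : ℂ) • pr ρ 5 a (avW ρ (ρ (X 1 s) w))) = 0 := by
  obtain ⟨⟨c5, hc5, hn5⟩, ⟨c1, hc1, hn1⟩, hn0⟩ := nC_moves (F := F)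
  obtain ⟨δ, hδ, hbot⟩ := hH3 (a / c5) (div_ne_zero ha hc5)
  refine ⟨δ * c1, mul_ne_zero hδ hc1, ?_⟩
  have hu : ∀ t, ρ (X 10 t) (ρ nC w) = eChar F (a / c5 * t) • ρ nC w := by
    intro t
    obtain ⟨t', rfl⟩ : ∃ t', t = c5 * t' := ⟨c5⁻¹ * t, by field_simp⟩
    refine move ρ (hn5 t') ?_
    rw [h5, ← mul_assoc, div_mul_cancel₀ a hc5]
  have h1 : av ρ 11 (ρ nC w) ∈ Wt ρ [(10, a / c5), (11, 0)] := by
    rw [mem_Wt_cons, mem_Wt_cons]
    refine ⟨fun t => ?_, fun t => pr_eig ρ 11 0 _ t, mem_Wt_nil ρ _⟩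
    rw [av_moves ρ (moves_self_of_commute (r := 10) (s := 11) (by decide +kernel)
      (by decide) (by decide) (by decide) (by decide) t), hu, map_smul]
  have h2 : pr ρ 6 δ (av ρ 11 (ρ nC w)) ∈ Wt ρ [(6, δ), (10, a / c5), (11, 0)] := by
    rw [mem_Wt_cons]
    refine ⟨fun t => pr_eig ρ 6 δ _ t, pr_mem ρ 6 δ (preserves_mod ρ 6 _ (by simp) (by
      intro p hp s t
      simp only [List.mem_cons, List.not_mem_nil, or_false] at hp
      rcases hp with rfl | rfl
      · exact ⟨_, comm10_6 t s⟩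
      · dsimp only
        exact commuteEx (by decide +kernel) (by decide) (by decide) (by decide) (by decide) t s)) h1⟩
  rw [hbot, Submodule.mem_bot, ← av_moves ρ hn0, ← pr_move ρ hc1 hn1] at h2
  have h3 : pr ρ 1 (δ * c1) (av ρ 0 w) = 0 := by
    have := congrArg (ρ nC⁻¹) h2
    rwa [rho_inv_apply, map_zero] at this
  rw [pr_apply, av_apply] at h3
  simp only [map_smul] at h3
  rw [smul_eq_zero, or_iff_right (inv_ne_zero cardF_ne),
    Finset.sum_congr rfl fun s _ => smul_comm (eChar F (-(δ * c1 * s))) (Fintype.card F : ℂ)⁻¹ _,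
    ← Finset.smul_sum, smul_eq_zero, or_iff_right (inv_ne_zero cardF_ne)] at h3
  have h4 := congrArg (fun x => avW ρ x) h3
  simp only [avW, map_sum, map_smul, map_zero] at h4
  change ∑ s, eChar F (-(δ * c1 * s)) • ∑ t, avW ρ (ρ (X 1 s) (ρ (X 0 t) w)) = 0 at h4
  rw [← Finset.add_sum_erase _ _ (Finset.mem_univ (0 : F))] at h4
  have hzero : ∑ t, avW ρ (ρ (X 1 0) (ρ (X 0 t) w)) = w := by
    rw [Finset.sum_eq_single (0 : F)]
    · simp [X_zero, avW_of_mem ρ hw]
    · intro t _ ht
      rw [fam_zero, Module.End.one_apply]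
      refine avW_opp11 ρ hw ?_ ht
      rw [av, pr_of_eig ρ 5 h5, if_neg ha.symm]
    · simp
  rw [hzero, mul_zero, neg_zero, AddChar.map_zero_eq_one, one_smul] at h4
  refine Eq.trans (congrArg _ (Finset.sum_congr rfl fun s hs => ?_)) h4
  rw [avW_pair ρ h5 (Finset.ne_of_mem_erase hs)]

/-- a root subgroup acting on a line by a character moved by a torus element acts trivially -/
theorem char_trivial (hq : 3 ≤ Fintype.card F) {e : V} (he : e ≠ 0) (r : ℕ)
    (hline : ∀ t, ∃ x : ℂ, ρ (X r t) e = x • e)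
    (htor : ∀ c : F, c ≠ 0 → ∃ g : G2Grp F, (∃ x : ℂ, ρ g e = x • e) ∧
      ∀ t, X r (c * t) * g = g * X r t) (t : F) : ρ (X r t) e = e := by
  choose χ hχ using hline
  have hinj : ∀ x y : ℂ, x • e = y • e → x = y := fun x y h =>
    smul_left_injective ℂ he h
  have hadd : ∀ s u, χ (s + u) = χ s * χ u := fun s u => hinj _ _ (by
    rw [← hχ, ← X_add, rho_mul_apply, hχ, map_smul, hχ, smul_smul, mul_comm])
  have hone : χ 0 = 1 := hinj _ _ (by rw [← hχ, X_zero, map_one, one_smul]; rfl)
  have hnz : ∀ s, χ s ≠ 0 := fun s h0 => by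
    have := hadd s (-s)
    rw [add_neg_cancel, hone, h0, zero_mul] at this
    exact one_ne_zero this
  have hconst : ∀ c : F, c ≠ 0 → χ c = χ 1 := by
    intro c hc
    obtain ⟨g, ⟨x, hx⟩, hg⟩ := htor c hc
    have h := congrArg (fun g => ρ g e) (hg 1)
    simp only [rho_mul_apply, hx, hχ, map_smul, smul_smul, mul_one] at h
    have hx0 : x ≠ 0 := fun h0 => he (by
      have := congrArg (ρ g⁻¹) hx
      rwa [rho_inv_apply, h0, zero_smul, map_zero] at this)
    exact mul_left_cancel₀ hx0 ((hinj _ _ h).trans (mul_comm _ _))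
  obtain ⟨u, hu⟩ : ((Finset.univ.erase (0 : F)).erase (-1)).Nonempty := by
    rw [← Finset.card_pos, Finset.card_erase_of_mem (by simp),
      Finset.card_erase_of_mem (Finset.mem_univ _), Finset.card_univ]
    omega
  simp only [Finset.mem_erase] at hu
  have h1 : χ 1 = 1 := by
    have h := hadd 1 u
    rw [hconst _ (fun h0 => hu.1 (by linear_combination h0)), hconst u hu.2.1] at h
    exact (mul_eq_left₀ (hnz 1)).1 h.symm
  rcases eq_or_ne t 0 with rfl | ht
  · rw [X_zero, map_one]; rfl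
  · rw [hχ, hconst t ht, h1, one_smul]

end General

variable {k : ℕ} (ρ : Representation ℂ (G2Grp F) (Fin k → ℂ))

/-- roots of the radical -/
def radRoots : List ℕ := [6, 8, 9, 10, 11]

theorem degree_gt_cube [ρ.IsIrreducible] (hk : 2 ≤ k) (hq : 5 ≤ Fintype.card F) (h3 : (3 : F) ≠ 0)
    (hg : ∃ g : F, ∀ x : F, x ^ 3 ≠ g) : Fintype.card F ^ 3 < k := by
  by_contra hle
  have hV : 2 ≤ finrank ℂ (Fin k → ℂ) := by rwa [finrank_fin_fun]
  obtain ⟨hf, hD, hcube⟩ := long_small ρ hV hq h3 (by rw [finrank_fin_fun]; omega)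
  obtain ⟨g, hg⟩ := hg
  have hg0 : g ≠ 0 := fun h => hg 0 (by rw [h]; simp)
  -- no vectors on non-cubic lines
  have hH3 : ∀ A : F, A ≠ 0 → ∃ δ : F, δ ≠ 0 ∧ Wt ρ [(6, δ), (10, A), (11, 0)] = ⊥ := by
    intro A hA
    refine ⟨-A * g, mul_ne_zero (neg_ne_zero.2 hA) hg0, Submodule.finrank_eq_zero.1 ?_⟩
    have hperm : ∀ B C : F, finrank ℂ (Wt ρ [(8, C), (9, B), (6, -A * g), (10, A), (11, 0)]) = 0 := by
      intro B C
      by_contra hne
      have hw : Wt ρ [(8, C), (9, B), (6, -A * g), (10, A), (11, 0)] =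
          Wt ρ [(6, -A * g), (8, C), (9, B), (10, - -A), (11, 0)] :=
        Wt_congr ρ fun p => by simp only [List.mem_cons, List.not_mem_nil, or_false, neg_neg]; tauto
      have hcu := hcube (-A, B, C, -A * g) (fun h => neg_ne_zero.2 hA (congrArg Prod.fst h))
        (Nat.pos_of_ne_zero (by rw [hw] at hne; exact hne))
      simp only [IsCube, if_neg (neg_ne_zero.2 hA)] at hcu
      have h27 : (27 : F) * (-A) ^ 3 ≠ 0 := by
        rw [show (27 : F) = 3 ^ 3 by norm_num]
        exact mul_ne_zero (pow_ne_zero 3 h3) (pow_ne_zero 3 (neg_ne_zero.2 hA))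
      refine hg (B / (3 * -A)) ?_
      rw [div_pow, div_eq_iff (pow_ne_zero 3 (mul_ne_zero h3 (neg_ne_zero.2 hA)))]
      linear_combination -hcu.2
    rw [split ρ 9 _ (preserves_mod ρ 9 _ (by simp) (by
      intro p hp s t
      simp only [List.mem_cons, List.not_mem_nil, or_false] at hp
      rcases hp with rfl | rfl | rfl <;> dsimp only <;>
        exact commuteEx (by decide +kernel) (by decide) (by decide) (by decide) (by decide) t s))]
    refine Finset.sum_eq_zero fun B _ => ?_
    rw [split ρ 8 _ (preserves_mod ρ 8 _ (by simp) (by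
      intro p hp s t
      simp only [List.mem_cons, List.not_mem_nil, or_false] at hp
      rcases hp with rfl | rfl | rfl | rfl
      · exact ⟨_, comm9_8 t s⟩
      all_goals dsimp only
      all_goals exact commuteEx (by decide +kernel) (by decide) (by decide) (by decide) (by decide) t s))]
    exact Finset.sum_eq_zero fun C _ => hperm B C
  -- the fixed space of the radical
  set W3 := Wt ρ [(6, (0 : F)), (10, 0), (11, 0)] with hW3
  set QQ := Wt ρ (radRoots.map fun s => (s, (0 : F))) with hQQ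
  have hQdim : finrank ℂ QQ = dC ρ 0 0 0 0 := by
    rw [hQQ, dC, neg_zero]; rfl
  have hdim : finrank ℂ W3 = dC ρ 0 0 0 0 := by
    have e : ∀ B C : F, finrank ℂ (Wt ρ [(8, C), (9, B), (6, (0 : F)), (10, 0), (11, 0)]) =
        dC ρ 0 B C 0 := fun B C => congrArg (fun W : Submodule ℂ (Fin k → ℂ) => finrank ℂ W)
          (Wt_congr ρ fun p => by simp only [List.mem_cons, List.not_mem_nil, or_false, neg_zero]; tauto)
    have hz : ∀ B C : F, (B, C) ≠ 0 → dC ρ 0 B C 0 = 0 := fun B C hne => by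
      by_contra hpos
      have := hcube (0, B, C, 0) (fun h => hne (by
        simp only [Prod.ext_iff, Prod.fst_zero, Prod.snd_zero] at h ⊢
        exact ⟨h.2.1, h.2.2.1⟩)) (Nat.pos_of_ne_zero hpos)
      simp only [IsCube, if_pos] at this
      exact hne (by simp [this])
    rw [hW3, split ρ 9 _ (preserves_mod ρ 9 _ (by simp) (by
      intro p hp s t
      simp only [List.mem_cons, List.not_mem_nil, or_false] at hp
      rcases hp with rfl | rfl | rfl <;> dsimp only <;>
        exact commuteEx (by decide +kernel) (by decide) (by decide) (by decide) (by decide) t s)),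
      Finset.sum_eq_single (0 : F) ?_ (by simp),
      split ρ 8 _ (preserves_mod ρ 8 _ (by simp) (by
        intro p hp s t
        simp only [List.mem_cons, List.not_mem_nil, or_false] at hp
        rcases hp with rfl | rfl | rfl | rfl
        · exact ⟨_, comm9_8 t s⟩
        all_goals dsimp only
        all_goals exact commuteEx (by decide +kernel) (by decide) (by decide) (by decide) (by decide) t s)),
      Finset.sum_eq_single (0 : F) (fun C _ hC => by rw [e, hz 0 C (by simp [hC])]) (by simp), e]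
    intro B _ hB
    rw [split ρ 8 _ (preserves_mod ρ 8 _ (by simp) (by
      intro p hp s t
      simp only [List.mem_cons, List.not_mem_nil, or_false] at hp
      rcases hp with rfl | rfl | rfl | rfl
      · exact ⟨_, comm9_8 t s⟩
      all_goals dsimp only
      all_goals exact commuteEx (by decide +kernel) (by decide) (by decide) (by decide) (by decide) t s))]
    exact Finset.sum_eq_zero fun C _ => by rw [e, hz B C (by simp [hB])]
  have hQW : QQ = W3 := by
    refine Submodule.eq_of_le_of_finrank_eq (Wt_mono ρ fun p hp => ?_) (by rw [hQdim, hdim])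
    simp only [List.mem_cons, List.not_mem_nil, or_false] at hp
    rcases hp with rfl | rfl | rfl <;> simp [radRoots]
  rcases Nat.eq_zero_or_pos (dC ρ 0 0 0 0) with hf0 | hf1
  · -- no fixed vectors of the radical
    have hpos : 0 < finrank ℂ (Wt ρ [(6, (1 : F)), (10, 0), (11, 0)]) := by
      refine lt_of_lt_of_le (show 0 < dC ρ 0 0 0 1 by omega) (Submodule.finrank_mono ?_)
      exact Wt_mono ρ fun p hp => by
        simp only [List.mem_cons, List.not_mem_nil, or_false] at hp
        rcases hp with rfl | rfl | rfl <;> simp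
    obtain ⟨v, hv, hv0⟩ := (Submodule.ne_bot_iff _).1 (fun h => by
      rw [Submodule.finrank_eq_zero.2 h] at hpos; exact absurd hpos (lt_irrefl 0))
    simp only [mem_Wt_cons, zero_mul, AddChar.map_zero_eq_one, one_smul, one_mul] at hv
    obtain ⟨h6, h10, h11, -⟩ := hv
    obtain ⟨c, hc, hm⟩ := nB_moves (F := F) 6 5 (by decide) (by decide +kernel)
    have hw : ρ nB v ∈ WW ρ := (mem_WW ρ).2
      ⟨moves_fixed ρ (nB_moves 11 10 (by decide) (by decide +kernel)) h11,
        moves_fixed ρ (nB_moves 10 11 (by decide) (by decide +kernel)) h10⟩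
    have h5 : ∀ r, ρ (X 5 r) (ρ nB v) = eChar F (c⁻¹ * r) • ρ nB v := fun r => by
      obtain ⟨r', rfl⟩ : ∃ r', r = c * r' := ⟨c⁻¹ * r, by field_simp⟩
      exact move ρ (hm r') (by rw [h6, ← mul_assoc, inv_mul_cancel₀ hc, one_mul])
    obtain ⟨δ, -, hrel⟩ := key_relation ρ hw (inv_ne_zero hc) h5 hH3
    have hbot : W3 = ⊥ := Submodule.finrank_eq_zero.1 (by rw [hdim, hf0])
    have h6z : av ρ 6 (ρ nB v) = 0 := by
      have := av6_mem ρ hw
      rwa [← hW3, hbot, Submodule.mem_bot] at this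
    rw [Finset.sum_eq_zero fun s hs => by
      rw [avW_opp ρ hw (Finset.ne_of_mem_erase hs), h6z, map_zero, map_zero, map_zero, smul_zero,
        smul_zero], add_zero] at hrel
    exact hv0 (by simpa [rho_inv_apply] using congrArg (ρ nB⁻¹) hrel)
  · -- a line fixed by the radical
    have hdim1 : finrank ℂ QQ = 1 := by omega
    obtain ⟨⟨e, heQ⟩, he0', hspan⟩ := finrank_eq_one_iff'.1 hdim1
    have he0 : e ≠ 0 := fun h => he0' (Subtype.ext h)
    have hsc : ∀ v ∈ QQ, ∃ x : ℂ, v = x • e := fun v hv => by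
      obtain ⟨x, hx⟩ := hspan ⟨v, hv⟩
      exact ⟨x, (congrArg Subtype.val hx).symm⟩
    have hfix : ∀ s ∈ radRoots, ∀ t, ρ (X s t) e = e := fun s hs t => by
      simpa using heQ (s, 0) (List.mem_map.2 ⟨s, hs, rfl⟩) t
    have htor : ∀ r, r < 12 → ∀ c : F, c ≠ 0 → ∃ x : ℂ, ρ (hG r c) e = x • e := by
      intro r hr c hc
      refine hsc _ ?_
      simp only [hQQ, mem_Wt, List.forall_mem_map, zero_mul, AddChar.map_zero_eq_one, one_smul]
      intro s hs
      refine moves_fixed ρ (hG_moves r s hr ?_ hc) (hfix s hs)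
      simp only [radRoots, List.mem_cons, List.not_mem_nil, or_false] at hs
      omega
    have h7 : ∀ t, ρ (X 7 t) e = e := char_trivial ρ (by omega) he0 7
      (fun t => hsc _ (fix_preserves ρ 7 radRoots (by decide) (by decide +kernel) t e heQ))
      fun c hc => ⟨hG 9 c, htor 9 (by decide) c hc, fun t => by
        have := hG_conj (r := 9) (s := 7) (1 : ℤ) (by decide +kernel) (by decide) (by decide)
          (Units.mk0 c hc) t
        simpa using this⟩
    have h4 : ∀ t, ρ (X 4 t) e = e := char_trivial ρ (by omega) he0 4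
      (fun t => hsc _ (fix_preserves ρ 4 radRoots (by decide) (by decide +kernel) t e heQ))
      fun c hc => ⟨hG 9 c⁻¹, htor 9 (by decide) _ (inv_ne_zero hc), fun t => by
        have := hG_conj (r := 9) (s := 4) (-1 : ℤ) (by decide +kernel) (by decide) (by decide)
          (Units.mk0 c⁻¹ (inv_ne_zero hc)) t
        simpa using this⟩
    have hnA : ρ nA e = e := by
      rw [nA, nG, rho_mul_apply, rho_mul_apply, h7, h4, h7]
    have hnA' : ρ nA⁻¹ e = e := by
      have := rho_inv_apply ρ nA e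
      rwa [hnA] at this
    have hh7 : ∀ c : F, ρ (hG 7 c) e = e := fun c => by
      simp only [hG, nG, rho_mul_apply, h7, h4]
    have hh6 := htor 6 (by decide)
    choose θ hθ using hh6
    have hnBW : ρ nB e ∈ WW ρ := (mem_WW ρ).2
      ⟨moves_fixed ρ (nB_moves 11 10 (by decide) (by decide +kernel)) (hfix 11 (by simp [radRoots])),
        moves_fixed ρ (nB_moves 10 11 (by decide) (by decide +kernel)) (hfix 10 (by simp [radRoots]))⟩
    have hin : ∀ v ∈ WW ρ, ∃ x : ℂ, av ρ 6 v = x • e := fun v hv => by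
      refine hsc _ ?_
      rw [hQW]
      exact av6_mem ρ hv
    obtain ⟨c0, hc0⟩ := hin _ hnBW
    have hn6 : ∀ τ : F, ∀ hτ : τ ≠ 0, av ρ 6 (ρ (nG 6 τ) e) = (c0 * θ τ hτ) • e := by
      intro τ hτ
      rw [nG_eq, ← nB, rho_mul_apply, ← av_moves ρ (hG_moves 6 6 (by decide) (by decide) hτ), hc0,
        map_smul, hθ τ hτ, smul_smul]
    have hsum5 : av ρ 6 (av ρ 5 e) = (Fintype.card F : ℂ)⁻¹ •
        (e + ∑ r ∈ Finset.univ.erase (0 : F), av ρ 6 (ρ (nG 6 (-r⁻¹)) e)) := by
      rw [av_apply ρ 5, map_smul, map_sum, ← Finset.add_sum_erase _ _ (Finset.mem_univ (0 : F))]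
      congr 1
      rw [X_zero, map_one, Module.End.one_apply, av_of_fixed ρ 6 (hfix 6 (by simp [radRoots]))]
      congr 1
      refine Finset.sum_congr rfl fun r hr => ?_
      rw [show X 5 r = X (11 - 6) r from rfl, X_opp 6, rho_mul_apply, rho_mul_apply,
        hfix 6 (by simp [radRoots]), av_absorb]
    have hm56 : Moves (nB : G2Grp F) 6 5 := nB_moves 6 5 (by decide) (by decide +kernel)
    have hinvB : (nB : G2Grp F)⁻¹ = nG 6 (-1) := by rw [nB, nG_inv]
    have h5avg : av ρ 5 e = ρ nB (av ρ 6 (ρ (nG 6 (-1)) e)) := by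
      rw [av_moves ρ hm56, ← hinvB, rho_apply_inv]
    have hc0ne : c0 ≠ 0 := by
      intro h0
      rw [h5avg, hn6 (-1) (by simp), h0, zero_mul, zero_smul, map_zero, map_zero,
        Finset.sum_eq_zero fun r hr => by
          rw [hn6 _ (neg_ne_zero.2 (inv_ne_zero (Finset.ne_of_mem_erase hr))), h0, zero_mul,
            zero_smul],
        add_zero, eq_comm, smul_eq_zero] at hsum5
      exact hsum5.elim (inv_ne_zero cardF_ne) he0
    have hinj : ∀ x y : ℂ, x • e = y • e → x = y := fun x y h => smul_left_injective ℂ he0 h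
    have hθ1 : ∀ c : F, ∀ hc : c ≠ 0, θ c hc = 1 := by
      intro c hc
      have hx : θ c hc ≠ 0 := fun h0 => he0 (by
        have := congrArg (ρ (hG 6 c)⁻¹) (hθ c hc)
        rwa [rho_inv_apply, h0, zero_smul, map_zero] at this)
      have h5' : ρ (hG 5 c) e = (θ c hc)⁻¹ • e := by
        have h := congrArg (fun g => ρ g e) (hG_five (Units.mk0 c hc))
        simp only [Units.val_mk0, rho_mul_apply, hθ c hc, map_smul, map_one,
          Module.End.one_apply] at h
        calc _ = (θ c hc)⁻¹ • θ c hc • ρ (hG 5 c) e := by rw [smul_smul, inv_mul_cancel₀ hx, one_smul]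
          _ = _ := by rw [h]
      have h8 : ρ (hG 8 c) e = θ c hc ^ 3 • e := by
        have h := congrArg (fun g => ρ g e) (hG_eight (Units.mk0 c hc))
        simp only [Units.val_mk0, pow_succ, pow_zero, one_mul, rho_mul_apply, hθ c hc, map_smul,
          smul_smul, hh7] at h
        rw [h]; congr 1; ring
      have hA := congrArg (fun g => av ρ 6 (ρ g e))
        (nB_hG (r := 6) (r' := 5) (by decide +kernel) (by decide) (by decide) (Units.mk0 c hc))
      simp only [Units.val_mk0, rho_mul_apply, hθ c hc, map_smul, hc0,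
        ← av_moves ρ (hG_moves 5 6 (by decide) (by decide) hc), h5', smul_smul] at hA
      have e2 := mul_left_cancel₀ hc0ne ((hinj _ _ hA).trans (mul_comm _ _))
      have hB := congrArg (fun g => av ρ 6 (ρ g e))
        (nB_hG (r := 7) (r' := 8) (by decide +kernel) (by decide) (by decide) (Units.mk0 c hc))
      simp only [Units.val_mk0, rho_mul_apply, map_smul, hc0, hh7,
        ← av_moves ρ (hG_moves 8 6 (by decide) (by decide) hc), h8, smul_smul] at hB
      have e3 : θ c hc ^ 3 = 1 := mul_left_cancel₀ hc0ne ((hinj _ _ hB).trans (mul_one _).symm)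
      have e2' : θ c hc * θ c hc = 1 := by
        calc θ c hc * θ c hc = θ c hc * (θ c hc)⁻¹ := by rw [e2]
          _ = 1 := mul_inv_cancel₀ hx
      linear_combination e3 - θ c hc * e2'
    have hn6' : ∀ τ : F, τ ≠ 0 → av ρ 6 (ρ (nG 6 τ) e) = c0 • e := fun τ hτ => by
      rw [hn6 τ hτ, hθ1, mul_one]
    have hquad : (Fintype.card F : ℂ) * (c0 * c0) = 1 + ((Fintype.card F : ℂ) - 1) * c0 := by
      rw [h5avg, hn6' (-1) (by simp), map_smul, map_smul, hc0, smul_smul,
        Finset.sum_congr rfl fun r hr => hn6' _ (neg_ne_zero.2 (inv_ne_zero (Finset.ne_of_mem_erase hr))),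
        Finset.sum_const, Finset.card_erase_of_mem (Finset.mem_univ _), Finset.card_univ,
        ← Nat.cast_smul_eq_nsmul ℂ, smul_smul] at hsum5
      rw [show e + (((Fintype.card F - 1 : ℕ) : ℂ) * c0) • e =
        (1 + ((Fintype.card F - 1 : ℕ) : ℂ) * c0) • e by rw [add_smul, one_smul], smul_smul] at hsum5
      have := hinj _ _ hsum5
      rw [Nat.cast_sub (by omega), Nat.cast_one] at this
      rw [this, ← mul_assoc, mul_inv_cancel₀ cardF_ne, one_mul]
    have hc1 : c0 ≠ 1 := by
      intro h1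
      have := Fintype.ofFinite (G2Grp F)
      have hmean : ∑ t : F, ρ (X 6 t * nB) e = (Fintype.card F : ℂ) • ρ 1 e := by
        rw [map_one, Module.End.one_apply]
        have h := hc0
        rw [h1, one_smul, av_apply, inv_smul_eq_iff₀ cardF_ne] at h
        rw [← h]
        exact Finset.sum_congr rfl fun t _ => rho_mul_apply ρ _ _ _
      have hnB : ρ nB e = e := by
        have := translates_eq_of_mean ρ (fun t : F => X 6 t * nB) 1 e hmean 0
        simpa [X_zero] using this
      have h5 : ∀ t, ρ (X 5 t) e = e := fun t => by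
        have := moves_fixed ρ hm56 (hfix 6 (by simp [radRoots])) t
        rwa [hnB] at this
      exact he0 (eq_zero_of_fixed ρ hV (fixed_all ρ h4 h5 (hfix 6 (by simp [radRoots])) h7))
    have hc : (Fintype.card F : ℂ) * c0 = -1 := by
      refine mul_right_cancel₀ (sub_ne_zero.2 hc1) ?_
      linear_combination hquad
    -- the averages at the opposite root
    set w := (Fintype.card F : ℂ) • pr ρ 5 1 e with hwdef
    have heW : e ∈ WW ρ := (mem_WW ρ).2 ⟨hfix 10 (by simp [radRoots]), hfix 11 (by simp [radRoots])⟩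
    have hw : w ∈ WW ρ := (WW ρ).smul_mem _ (pr_mem ρ 5 1 (WW_X5 ρ) heW)
    have h5w : ∀ r, ρ (X 5 r) w = eChar F (1 * r) • w := fun r => by
      rw [hwdef, map_smul, pr_eig, smul_comm]
    have hα : av ρ 6 w = (1 - c0) • e := by
      rw [hwdef, pr_apply ρ 5, smul_smul, mul_inv_cancel₀ cardF_ne, one_smul, map_sum,
        ← Finset.add_sum_erase _ _ (Finset.mem_univ (0 : F))]
      simp only [map_smul]
      rw [X_zero, map_one, Module.End.one_apply, av_of_fixed ρ 6 (hfix 6 (by simp [radRoots])),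
        Finset.sum_congr rfl fun r hr => by
          rw [show X 5 r = X (11 - 6) r from rfl, X_opp 6, rho_mul_apply, rho_mul_apply,
            hfix 6 (by simp [radRoots]), av_absorb,
            hn6' _ (neg_ne_zero.2 (inv_ne_zero (Finset.ne_of_mem_erase hr))), neg_mul_eq_neg_mul],
        ← Finset.sum_smul, sum_ne_zero_eChar (neg_ne_zero.2 one_ne_zero)]
      simp [add_smul, sub_eq_add_neg]
    have hκ : ∀ τ : F, τ ≠ 0 → av ρ 10 (ρ (nG 10 τ) e) = c0 • e := fun τ hτ => by
      rw [nG_ten, rho_mul_apply, rho_mul_apply, hnA',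
        ← av_moves ρ (nA_moves 6 10 (by decide) (by decide +kernel)), hn6' τ hτ, map_smul, hnA]
    obtain ⟨δ, hδ, hrel⟩ := key_relation ρ hw one_ne_zero h5w hH3
    have hterm : ∀ s ∈ Finset.univ.erase (0 : F),
        eChar F (-(δ * s)) • ((Fintype.card F : ℂ) • pr ρ 5 1 (avW ρ (ρ (X 1 s) w))) =
          eChar F (-δ * s) • (((1 - c0) * c0) • w) := by
      intro s hs
      rw [avW_opp ρ hw (Finset.ne_of_mem_erase hs), hα, map_smul, map_smul,
        hκ _ (neg_ne_zero.2 (inv_ne_zero (Finset.ne_of_mem_erase hs))), hwdef, map_smul, map_smul,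
        neg_mul]
      simp only [smul_smul]
      congr 1
      ring
    rw [Finset.sum_congr rfl hterm, ← Finset.sum_smul, sum_ne_zero_eChar (neg_ne_zero.2 hδ),
      neg_one_smul,
      show w + -(((1 - c0) * c0) • w) = (1 - (1 - c0) * c0) • w by
        rw [sub_smul (1 : ℂ), one_smul]; exact (sub_eq_add_neg _ _).symm] at hrel
    have hw0 : w ≠ 0 := fun h => by
      rw [h, map_zero, eq_comm, smul_eq_zero] at hα
      exact hα.elim (sub_ne_zero.2 hc1.symm) he0
    have hκ0 := (smul_eq_zero.1 hrel).resolve_right hw0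
    have hfin : (Fintype.card F : ℂ) ^ 2 + Fintype.card F + 1 = 0 := by
      linear_combination ((Fintype.card F : ℂ) ^ 2) * hκ0 +
        (1 - (Fintype.card F : ℂ) * c0 + Fintype.card F) * hc
    have : (Fintype.card F ^ 2 + Fintype.card F + 1 : ℕ) = 0 := by exact_mod_cast hfin
    omega

end Cfsg.Agent.H53.G2
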