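import Cfsg.Agent.H53.G2.Basic

/-!
Elements moving root subgroups, averages over root subgroups, and the commutator formulas in use.
-/

set_option autoImplicit false
set_option linter.unusedSectionVars false

namespace Cfsg.Agent.H53.G2

open Module Cfsg.Agent.Symplectic Cfsg.Lie Cfsg.Agent.Chevalley
open scoped Classical

variable {F : Type*} [Field F]

/-- `g` carries the root subgroup `r` to the root subgroup `r'` -/
def Moves (g : G2Grp F) (r r' : ℕ) : Prop :=
  ∃ c : F, c ≠ 0 ∧ ∀ t, X r' (c * t) * g = g * X r t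

theorem Moves.mul {g h : G2Grp F} {r r' r'' : ℕ} (hg : Moves g r' r'') (hh : Moves h r r') :
    Moves (g * h) r r'' := by
  obtain ⟨c, hc, hgc⟩ := hg
  obtain ⟨d, hd, hhd⟩ := hh
  refine ⟨c * d, mul_ne_zero hc hd, fun t => ?_⟩
  rw [mul_assoc c, ← mul_assoc, hgc, mul_assoc, hhd, mul_assoc]

theorem Moves.inv {g : G2Grp F} {r r' : ℕ} (hg : Moves g r r') : Moves g⁻¹ r' r := by
  obtain ⟨c, hc, hgc⟩ := hg
  refine ⟨c⁻¹, inv_ne_zero hc, fun t => ?_⟩
  have h := hgc (c⁻¹ * t)
  rw [← mul_assoc, mul_inv_cancel₀ hc, one_mul] at h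
  rw [eq_inv_mul_iff_mul_eq, ← mul_assoc, ← h, mul_inv_cancel_right]

theorem nA_moves (r r' : ℕ) (hr : r < 12) (h : Chevalley.G2.cert.w 0 r = r') :
    Moves (nA : G2Grp F) r r' := by
  refine ⟨(Chevalley.G2.cert.sg 0 r : F), ?_, fun t => nA_mul r r' _ ⟨h, rfl⟩ hr t⟩
  rcases Chevalley.G2.cert.sg_pm 0 r with e | e <;> simp [e]

theorem nB_moves (r r' : ℕ) (hr : r < 12) (h : Chevalley.G2.cert.w 1 r = r') :
    Moves (nB : G2Grp F) r r' := by
  refine ⟨(Chevalley.G2.cert.sg 1 r : F), ?_, fun t => nB_mul r r' _ ⟨h, rfl⟩ hr t⟩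
  rcases Chevalley.G2.cert.sg_pm 1 r with e | e <;> simp [e]

theorem hG_moves (r s : ℕ) (hr : r < 12) (hs : s < 12) {c : F} (hc : c ≠ 0) :
    Moves (hG r c) s s :=
  ⟨(c : F) ^ pairingSum chevG2 r s, zpow_ne_zero _ hc, fun t =>
    hG_conj (pairingSum chevG2 r s) rfl hr hs (Units.mk0 c hc) t⟩

theorem nG_six_moves {τ : F} (hτ : τ ≠ 0) (r r' : ℕ) (hr : r < 12) (hr' : r' < 12)
    (h : Chevalley.G2.cert.w 1 r = r') : Moves (nG 6 τ) r r' := by
  rw [nG_eq, ← nB]
  exact (hG_moves 6 r' (by decide) hr' hτ).mul (nB_moves r r' hr h)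

theorem nG_ten_moves {τ : F} (hτ : τ ≠ 0) : Moves (nG 10 τ) 6 11 ∧ Moves (nG 10 τ) 11 6 := by
  rw [nG_ten]
  constructor
  · exact ((nA_moves 11 11 (by decide) (by decide +kernel)).mul
      (nG_six_moves hτ 10 11 (by decide) (by decide) (by decide +kernel))).mul
      (nA_moves 10 6 (by decide) (by decide +kernel)).inv
  · exact ((nA_moves 10 6 (by decide) (by decide +kernel)).mul
      (nG_six_moves hτ 11 10 (by decide) (by decide) (by decide +kernel))).mul
      (nA_moves 11 11 (by decide) (by decide +kernel)).inv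

theorem nG_eleven (τ : F) : nG 11 τ = nB * nG 10 τ * nB⁻¹ := by
  refine Subtype.ext ?_
  simp only [Subgroup.coe_mul, Subgroup.coe_inv, coe_nB, coe_nG (show (11 : ℕ) < 12 by decide),
    coe_nG (show (10 : ℕ) < 12 by decide)]
  rw [Cert.nS_conj_nU Chevalley.G2.cert F (by decide +kernel) (by decide +kernel),
    show Chevalley.G2.cert.w 1 10 = 11 by decide +kernel,
    show Chevalley.G2.cert.sg 1 10 = 1 by decide +kernel, Int.cast_one, one_mul]

theorem nG_eleven_moves {τ : F} (hτ : τ ≠ 0) : Moves (nG 11 τ) 5 10 := by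
  rw [nG_eleven]
  exact ((nB_moves 11 10 (by decide) (by decide +kernel)).mul (nG_ten_moves hτ).1).mul
    (nB_moves 6 5 (by decide) (by decide +kernel)).inv

/-- a representative of the reflection in the highest root -/
def nC : G2Grp F := nB * nA * nB * nA * nB

theorem nC_moves : Moves (nC : G2Grp F) 5 10 ∧ Moves (nC : G2Grp F) 1 6 ∧
    Moves (nC : G2Grp F) 0 11 :=
  ⟨((((nB_moves 11 10 (by decide) (by decide +kernel)).mul
        (nA_moves 11 11 (by decide) (by decide +kernel))).mul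
        (nB_moves 10 11 (by decide) (by decide +kernel))).mul
        (nA_moves 6 10 (by decide) (by decide +kernel))).mul
        (nB_moves 5 6 (by decide) (by decide +kernel)),
   ((((nB_moves 5 6 (by decide) (by decide +kernel)).mul
        (nA_moves 1 5 (by decide) (by decide +kernel))).mul
        (nB_moves 0 1 (by decide) (by decide +kernel))).mul
        (nA_moves 0 0 (by decide) (by decide +kernel))).mul
        (nB_moves 1 0 (by decide) (by decide +kernel)),
   ((((nB_moves 10 11 (by decide) (by decide +kernel)).mul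
        (nA_moves 6 10 (by decide) (by decide +kernel))).mul
        (nB_moves 5 6 (by decide) (by decide +kernel))).mul
        (nA_moves 1 5 (by decide) (by decide +kernel))).mul
        (nB_moves 0 1 (by decide) (by decide +kernel))⟩

theorem comm6_7 (t u : F) : X 6 u * X 7 t = X 7 t *
    (X 6 u * (X 8 (t * u) * (X 9 (t ^ 2 * u) *
      (X 10 (-(t ^ 3 * u)) * X 11 (-(t ^ 3 * u ^ 2)))))) := by
  rw [comm [(8, -1, 1, 1), (9, 1, 2, 1), (10, 1, 3, 1), (11, 1, 3, 2)] (by decide +kernel)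
    (by decide) (by decide) (by decide) (by decide)]
  simp only [List.map_cons, List.map_nil, List.prod_cons, List.prod_nil, mul_one, mul_assoc]
  push_cast
  ring_nf

theorem comm8_7 (t u : F) : X 8 u * X 7 t = X 7 t *
    (X 8 u * (X 9 (2 * t * u) * (X 10 (-(3 * t ^ 2 * u)) * X 11 (-(3 * t * u ^ 2))))) := by
  rw [comm [(9, -2, 1, 1), (10, -3, 2, 1), (11, 3, 1, 2)] (by decide +kernel)
    (by decide) (by decide) (by decide) (by decide)]
  simp only [List.map_cons, List.map_nil, List.prod_cons, List.prod_nil, mul_one, mul_assoc]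
  push_cast
  ring_nf

theorem comm9_7 (t u : F) : X 9 u * X 7 t = X 7 t * (X 9 u * X 10 (-(3 * t * u))) := by
  rw [comm [(10, 3, 1, 1)] (by decide +kernel) (by decide) (by decide) (by decide) (by decide)]
  simp only [List.map_cons, List.map_nil, List.prod_cons, List.prod_nil, mul_one, mul_assoc]
  push_cast
  ring_nf

theorem comm10_6 (t u : F) : X 10 u * X 6 t = X 6 t * (X 10 u * X 11 (-(t * u))) := by
  rw [comm [(11, 1, 1, 1)] (by decide +kernel) (by decide) (by decide) (by decide) (by decide)]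
  simp only [List.map_cons, List.map_nil, List.prod_cons, List.prod_nil, mul_one, mul_assoc]
  push_cast
  ring_nf

theorem comm6_10 (t u : F) : X 6 u * X 10 t = X 10 t * (X 6 u * X 11 (t * u)) := by
  rw [comm [(11, -1, 1, 1)] (by decide +kernel) (by decide) (by decide) (by decide) (by decide)]
  simp only [List.map_cons, List.map_nil, List.prod_cons, List.prod_nil, mul_one, mul_assoc]
  push_cast
  ring_nf

theorem comm8_9 (t u : F) : X 8 u * X 9 t = X 9 t * (X 8 u * X 11 (3 * t * u)) := by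
  rw [comm [(11, -3, 1, 1)] (by decide +kernel) (by decide) (by decide) (by decide) (by decide)]
  simp only [List.map_cons, List.map_nil, List.prod_cons, List.prod_nil, mul_one, mul_assoc]
  push_cast
  ring_nf

theorem comm9_8 (t u : F) : X 9 u * X 8 t = X 8 t * (X 9 u * X 11 (-(3 * t * u))) := by
  rw [comm [(11, 3, 1, 1)] (by decide +kernel) (by decide) (by decide) (by decide) (by decide)]
  simp only [List.map_cons, List.map_nil, List.prod_cons, List.prod_nil, mul_one, mul_assoc]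
  push_cast
  ring_nf

theorem comm11_5 (t u : F) : X 11 u * X 5 t = X 5 t * (X 11 u * X 10 (-(t * u))) := by
  rw [comm [(10, 1, 1, 1)] (by decide +kernel) (by decide) (by decide) (by decide) (by decide)]
  simp only [List.map_cons, List.map_nil, List.prod_cons, List.prod_nil, mul_one, mul_assoc]
  push_cast
  ring_nf

theorem comm1_5 (t u : F) : X 1 u * X 5 t = X 5 t * (X 1 u * X 0 (t * u)) := by
  rw [comm [(0, -1, 1, 1)] (by decide +kernel) (by decide) (by decide) (by decide) (by decide)]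
  simp only [List.map_cons, List.map_nil, List.prod_cons, List.prod_nil, mul_one, mul_assoc]
  push_cast
  ring_nf

section Rep

variable [Fintype F] {V : Type*} [AddCommGroup V] [Module ℂ V] [FiniteDimensional ℂ V]
  (ρ : Representation ℂ (G2Grp F) V)

/-- the projection onto the `ψ (a ·)` part of a root subgroup -/
noncomputable def pr (r : ℕ) (a : F) : Module.End ℂ V := eigProj (fun t => ρ (X r t)) a

/-- the average over a root subgroup -/
noncomputable abbrev av (r : ℕ) : Module.End ℂ V := pr ρ r 0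

theorem pr_apply (r : ℕ) (a : F) (v : V) :
    pr ρ r a v = (Fintype.card F : ℂ)⁻¹ • ∑ t, eChar F (-(a * t)) • ρ (X r t) v :=
  eigProj_apply _ a v

theorem av_apply (r : ℕ) (v : V) :
    av ρ r v = (Fintype.card F : ℂ)⁻¹ • ∑ t, ρ (X r t) v := by
  simp [pr_apply]

theorem pr_eig (r : ℕ) (a : F) (v : V) (t : F) :
    ρ (X r t) (pr ρ r a v) = eChar F (a * t) • pr ρ r a v :=
  eigProj_mem_eig (u := fun t => ρ (X r t)) (fam_add ρ r) a v t

theorem pr_of_eig (r : ℕ) {a b : F} {v : V} (h : ∀ t, ρ (X r t) v = eChar F (b * t) • v) :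
    pr ρ r a v = if a = b then v else 0 := by
  exact eigProj_of_mem (u := fun t => ρ (X r t)) (a := a) (mem_eig.2 h)

theorem pr_mem (r : ℕ) (a : F) {L : List (ℕ × F)}
    (h : ∀ t, ∀ v ∈ Wt ρ L, ρ (X r t) v ∈ Wt ρ L) {v : V} (hv : v ∈ Wt ρ L) :
    pr ρ r a v ∈ Wt ρ L := eigProj_mem h a hv

theorem av_fixed (r : ℕ) (v : V) (t : F) : ρ (X r t) (av ρ r v) = av ρ r v := by
  rw [pr_eig, zero_mul, AddChar.map_zero_eq_one, one_smul]

theorem av_of_fixed (r : ℕ) {v : V} (h : ∀ t, ρ (X r t) v = v) : av ρ r v = v := by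
  classical
  rw [av, pr_of_eig ρ r (b := 0) fun t => by rw [h t]; simp, if_pos rfl]

theorem av_absorb (r : ℕ) (s : F) (v : V) : av ρ r (ρ (X r s) v) = av ρ r v := by
  rw [av_apply, av_apply]
  congr 1
  refine Fintype.sum_equiv (Equiv.addRight s) _ _ fun t => ?_
  rw [← rho_mul_apply, X_add]
  rfl

theorem pr_move {g : G2Grp F} {r r' : ℕ} {c : F} (hc : c ≠ 0)
    (h : ∀ t, X r' (c * t) * g = g * X r t) (a : F) (v : V) :
    ρ g (pr ρ r (a * c) v) = pr ρ r' a (ρ g v) := by
  rw [pr_apply, pr_apply, map_smul, map_sum]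
  congr 1
  refine Fintype.sum_equiv (Equiv.mulLeft₀ c hc) _ _ fun t => ?_
  simp only [Equiv.mulLeft₀_apply, map_smul, ← rho_mul_apply, h t, mul_assoc]

theorem av_moves {g : G2Grp F} {r r' : ℕ} (h : Moves g r r') (v : V) :
    ρ g (av ρ r v) = av ρ r' (ρ g v) := by
  obtain ⟨c, hc, hg⟩ := h
  have := pr_move ρ hc hg 0 v
  rwa [zero_mul] at this

theorem moves_fixed {g : G2Grp F} {r r' : ℕ} (h : Moves g r r') {v : V}
    (hv : ∀ t, ρ (X r t) v = v) (t : F) : ρ (X r' t) (ρ g v) = ρ g v := by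
  rw [← av_of_fixed ρ r hv, av_moves ρ h]
  exact av_fixed ρ r' _ t

theorem moves_self_of_commute {r s : ℕ} (h : chevG2.commTerms r s = []) (hr : r < 12)
    (hs : s < 12) (h1 : s ≠ r) (h2 : s + r ≠ 11) (t : F) : Moves (X r t) s s :=
  ⟨1, one_ne_zero, fun u => by rw [one_mul, commute_X h hr hs h1 h2]⟩

/-- a root subgroup whose commutators with a set of roots stay inside preserves their fixed space -/
theorem fix_preserves (r : ℕ) (R : List ℕ) (hr : r < 12)
    (h : ∀ s ∈ R, s < 12 ∧ s ≠ r ∧ s + r ≠ 11 ∧ ∀ c ∈ chevG2.commTerms r s, c.1 ∈ R) :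
    ∀ t, ∀ v ∈ Wt ρ (R.map fun s => (s, (0 : F))), ρ (X r t) v ∈ Wt ρ (R.map fun s => (s, (0 : F))) := by
  intro t v hv
  have hfix : ∀ s ∈ R, ∀ u, ρ (X s u) v = v := fun s hs u => by
    simpa using hv (s, 0) (List.mem_map.2 ⟨s, hs, rfl⟩) u
  have hprod : ∀ l : List (ℕ × F), (∀ p ∈ l, p.1 ∈ R) →
      ρ ((l.map fun p => X p.1 p.2).prod) v = v := by
    intro l hl
    induction l with
    | nil => simp
    | cons p l ih =>
      rw [List.map_cons, List.prod_cons, rho_mul_apply, ih fun q hq => hl q (by simp [hq]),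
        hfix _ (hl p (by simp))]
  simp only [mem_Wt, List.forall_mem_map]
  intro s hs u
  obtain ⟨h1, h2, h3, h4⟩ := h s hs
  have hc := comm (chevG2.commTerms r s) rfl hr h1 h2 h3 t u
  have hpr := hprod ((chevG2.commTerms r s).map fun c =>
    (c.1, (c.2.1 : F) * (-t) ^ c.2.2.1 * u ^ c.2.2.2)) (by
      intro p hp
      obtain ⟨c, hcm, rfl⟩ := List.mem_map.1 hp
      exact h4 c hcm)
  rw [List.map_map] at hpr
  rw [← rho_mul_apply, hc, rho_mul_apply, rho_mul_apply]
  simp only [Function.comp_def] at hpr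
  simp [hpr, hfix s hs]

theorem Wt_nil : Wt ρ ([] : List (ℕ × F)) = ⊤ := eq_top_iff.2 fun v _ => mem_Wt_nil ρ v

/-- weights are preserved by a root subgroup commuting with them modulo the highest root -/
theorem preserves_mod (r : ℕ) (L : List (ℕ × F)) (h11 : (11, (0 : F)) ∈ L)
    (h : ∀ p ∈ L, ∀ s t : F, ∃ x, X p.1 s * X r t = X r t * (X p.1 s * X 11 x)) :
    ∀ t, ∀ v ∈ Wt ρ L, ρ (X r t) v ∈ Wt ρ L := by
  intro t v hv p hp s
  obtain ⟨x, hx⟩ := h p hp s t
  refine move ρ hx ?_
  rw [rho_mul_apply, hv _ h11 x, zero_mul, AddChar.map_zero_eq_one, one_smul, hv p hp s]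

theorem finrank_map_moves (g : G2Grp F) (r r' : ℕ) (h : Moves g r r') :
    finrank ℂ (Wt ρ [(r, (0 : F))]) = finrank ℂ (Wt ρ [(r', (0 : F))]) := by
  have key : ∀ (g : G2Grp F) (r r' : ℕ), Moves g r r' →
      finrank ℂ (Wt ρ [(r, (0 : F))]) ≤ finrank ℂ (Wt ρ [(r', (0 : F))]) := by
    intro g r r' hm
    refine finrank_le_of_maps ρ g fun v hv => ?_
    simp only [mem_Wt, List.forall_mem_singleton, zero_mul, AddChar.map_zero_eq_one, one_smul] at hv ⊢
    exact moves_fixed ρ hm hv
  exact le_antisymm (key g r r' h) (key g⁻¹ r' r h.inv)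

end Rep

end Cfsg.Agent.H53.G2
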