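import Cfsg.Agent.H53.G2.Cubic
import Cfsg.Agent.H53.G2.Rel

/-!
Characteristic not three: the weights of the radical of the long root parabolic subgroup and the
bound `q³ - 1`.
-/

set_option autoImplicit false
set_option linter.unusedSectionVars false

namespace Cfsg.Agent.H53.G2

open Module Cfsg.Agent.Symplectic Cfsg.Lie Cfsg.Agent.Chevalley

variable {F : Type*} [Field F] [Fintype F] [DecidableEq F] {V : Type*} [AddCommGroup V]
  [Module ℂ V] [FiniteDimensional ℂ V] (ρ : Representation ℂ (G2Grp F) V)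

/-- multiplicity of a cubic form as a weight on the fixed space of the highest root subgroup -/
noncomputable def dC (a B C D : F) : ℕ :=
  finrank ℂ (Wt ρ [(6, D), (8, C), (9, B), (10, -a), (11, 0)])

theorem hG_scale (r s k : ℕ)
    (he : r < 12 ∧ s < 12 ∧ pairingSum chevG2 r s = (k : ℤ)) {c : F} (hc : c ≠ 0) (t : F) :
    X s (c⁻¹ ^ k * t) * hG r c⁻¹ = hG r c⁻¹ * X s t := by
  have h := hG_conj (k : ℤ) he.2.2 he.1 he.2.1 (Units.mk0 c⁻¹ (inv_ne_zero hc)) t
  simpa using h

theorem ex0 {g h : G2Grp F} (e : g = h) : ∃ x : F, g = h * X 11 x :=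
  ⟨0, by rw [X_zero, mul_one, e]⟩

theorem commuteEx {r s : ℕ} (h : chevG2.commTerms r s = []) (hr : r < 12) (hs : s < 12)
    (h1 : s ≠ r) (h2 : s + r ≠ 11) (t u : F) :
    ∃ x, X s u * X r t = X r t * (X s u * X 11 x) :=
  ⟨0, by rw [X_zero, mul_one, commute_X h hr hs h1 h2]⟩

theorem preserves10 (t : F) :
    ∀ v ∈ Wt ρ [(11, (0 : F))], ρ (X 10 t) v ∈ Wt ρ [(11, (0 : F))] :=
  preserves_mod ρ 10 _ (by simp) (by
    intro p hp s u
    simp only [List.mem_singleton] at hp
    subst hp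
    (dsimp only; exact commuteEx (by decide +kernel) (by decide) (by decide) (by decide) (by decide) u s)) t

theorem preserves9 (A t : F) :
    ∀ v ∈ Wt ρ [(10, A), (11, 0)], ρ (X 9 t) v ∈ Wt ρ [(10, A), (11, 0)] :=
  preserves_mod ρ 9 _ (by simp) (by
    intro p hp s u
    simp only [List.mem_cons, List.not_mem_nil, or_false] at hp
    rcases hp with rfl | rfl <;>
      (dsimp only; exact commuteEx (by decide +kernel) (by decide) (by decide) (by decide) (by decide) u s)) t

theorem preserves8 (A B t : F) :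
    ∀ v ∈ Wt ρ [(9, B), (10, A), (11, 0)], ρ (X 8 t) v ∈ Wt ρ [(9, B), (10, A), (11, 0)] :=
  preserves_mod ρ 8 _ (by simp) (by
    intro p hp s u
    simp only [List.mem_cons, List.not_mem_nil, or_false] at hp
    rcases hp with rfl | rfl | rfl
    · exact ⟨_, comm9_8 u s⟩
    all_goals (dsimp only; exact commuteEx (by decide +kernel) (by decide) (by decide) (by decide) (by decide) u s)) t

theorem preserves6 (A B C t : F) :
    ∀ v ∈ Wt ρ [(8, C), (9, B), (10, A), (11, 0)],
      ρ (X 6 t) v ∈ Wt ρ [(8, C), (9, B), (10, A), (11, 0)] :=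
  preserves_mod ρ 6 _ (by simp) (by
    intro p hp s u
    simp only [List.mem_cons, List.not_mem_nil, or_false] at hp
    rcases hp with rfl | rfl | rfl | rfl
    iterate 2 (dsimp only; exact commuteEx (by decide +kernel) (by decide) (by decide) (by decide) (by decide) u s)
    · exact ⟨_, comm10_6 u s⟩
    · (dsimp only; exact commuteEx (by decide +kernel) (by decide) (by decide) (by decide) (by decide) u s)) t

theorem finrank_fix11 :
    finrank ℂ (Wt ρ [(11, (0 : F))]) = ∑ x : F × F × F × F, uc (dC ρ) x := by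
  simp only [Fintype.sum_prod_type, uc]
  rw [split ρ 10 _ (preserves10 ρ), ← Equiv.sum_comp (Equiv.neg F)]
  refine Finset.sum_congr rfl fun a _ => ?_
  rw [Equiv.neg_apply, split ρ 9 _ (preserves9 ρ (-a))]
  refine Finset.sum_congr rfl fun B _ => ?_
  rw [split ρ 8 _ (preserves8 ρ (-a) B)]
  refine Finset.sum_congr rfl fun C _ => ?_
  exact split ρ 6 _ (preserves6 ρ (-a) B C)

theorem dC_T_le (a B C D t : F) :
    dC ρ a B C D ≤
      dC ρ a (B + 3 * t * a) (C + 2 * t * B + 3 * t ^ 2 * a)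
        (D + t * C + t ^ 2 * B + t ^ 3 * a) := by
  refine finrank_le_of_maps ρ (X 7 t) fun v hv => ?_
  simp only [mem_Wt, List.forall_mem_cons, List.not_mem_nil, false_implies, implies_true,
    and_true] at hv
  obtain ⟨h6, h8, h9, h10, h11⟩ := hv
  simp only [mem_Wt, List.forall_mem_cons, List.not_mem_nil, false_implies, implies_true, and_true]
  refine ⟨fun u => ?_, fun u => ?_, fun u => ?_, fun u => ?_, fun u => ?_⟩
  · refine move ρ (comm6_7 t u) ?_
    simp only [rho_mul_apply, h11, h10, h9, h8, h6, map_smul, smul_smul, ← AddChar.map_add_eq_mul]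
    congr 2; ring
  · refine move ρ (comm8_7 t u) ?_
    simp only [rho_mul_apply, h11, h10, h9, h8, map_smul, smul_smul, ← AddChar.map_add_eq_mul]
    congr 2; ring
  · refine move ρ (comm9_7 t u) ?_
    simp only [rho_mul_apply, h10, h9, map_smul, smul_smul, ← AddChar.map_add_eq_mul]
    congr 2; ring
  · exact move ρ (commute_X (by decide +kernel) (by decide) (by decide) (by decide) (by decide) t u)
      (h10 u)
  · exact move ρ (commute_X (by decide +kernel) (by decide) (by decide) (by decide) (by decide) t u)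
      (h11 u)

theorem dC_inv : CubicInv (dC ρ) where
  hT a B C D t := by
    refine le_antisymm ?_ (dC_T_le ρ a B C D t)
    have h := dC_T_le ρ a (B + 3 * t * a) (C + 2 * t * B + 3 * t ^ 2 * a)
      (D + t * C + t ^ 2 * B + t ^ 3 * a) (-t)
    refine h.trans (le_of_eq ?_)
    congr 1 <;> ring
  hS a B C D c hc := by
    have h := finrank_map_eq ρ (hG 11 c⁻¹) (fun p : ℕ × F => (p.1, p.2 * c))
      [(6, D), (8, C), (9, B), (10, -a), (11, 0)] ?_
    · rw [dC, dC, ← h]
      refine congrArg (fun W : Submodule ℂ V => finrank ℂ W) ?_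
      simp only [List.map_cons, List.map_nil, zero_mul, mul_comm c, neg_mul]
    · intro p hp
      simp only [List.mem_cons, List.not_mem_nil, or_false] at hp
      rcases hp with rfl | rfl | rfl | rfl | rfl
      · exact ⟨c⁻¹ ^ 1, pow_ne_zero _ (inv_ne_zero hc), by field_simp,
          hG_scale 11 6 1 (by decide +kernel) hc⟩
      · exact ⟨c⁻¹ ^ 1, pow_ne_zero _ (inv_ne_zero hc), by field_simp,
          hG_scale 11 8 1 (by decide +kernel) hc⟩
      · exact ⟨c⁻¹ ^ 1, pow_ne_zero _ (inv_ne_zero hc), by field_simp,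
          hG_scale 11 9 1 (by decide +kernel) hc⟩
      · exact ⟨c⁻¹ ^ 1, pow_ne_zero _ (inv_ne_zero hc), by field_simp,
          hG_scale 11 10 1 (by decide +kernel) hc⟩
      · exact ⟨c⁻¹ ^ 2, pow_ne_zero _ (inv_ne_zero hc), by simp,
          hG_scale 11 11 2 (by decide +kernel) hc⟩
  hM a B C D c hc := by
    have h := finrank_map_eq ρ (hG 9 c⁻¹) (fun p : ℕ × F => (p.1, p.2 *
        c ^ (if p.1 = 6 then 0 else if p.1 = 8 then 1 else if p.1 = 9 then 2 else 3)))
      [(6, D), (8, C), (9, B), (10, -a), (11, 0)] ?_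
    · rw [dC, dC, ← h]
      refine congrArg (fun W : Submodule ℂ V => finrank ℂ W) ?_
      simp only [List.map_cons, List.map_nil, zero_mul, if_true, if_false, Nat.reduceEqDiff,
        pow_zero, mul_one, pow_one]
      ring_nf
    · intro p hp
      simp only [List.mem_cons, List.not_mem_nil, or_false] at hp
      rcases hp with rfl | rfl | rfl | rfl | rfl
      · exact ⟨c⁻¹ ^ 0, pow_ne_zero _ (inv_ne_zero hc), by simp,
          hG_scale 9 6 0 (by decide +kernel) hc⟩
      · exact ⟨c⁻¹ ^ 1, pow_ne_zero _ (inv_ne_zero hc), by simp [hc],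
          hG_scale 9 8 1 (by decide +kernel) hc⟩
      · exact ⟨c⁻¹ ^ 2, pow_ne_zero _ (inv_ne_zero hc), by simp [hc],
          hG_scale 9 9 2 (by decide +kernel) hc⟩
      · exact ⟨c⁻¹ ^ 3, pow_ne_zero _ (inv_ne_zero hc), by simp [hc],
          hG_scale 9 10 3 (by decide +kernel) hc⟩
      · exact ⟨c⁻¹ ^ 3, pow_ne_zero _ (inv_ne_zero hc), by simp,
          hG_scale 9 11 3 (by decide +kernel) hc⟩
  hN a B C D := by
    have h := finrank_map_eq ρ nA (fun p : ℕ × F =>
        (Chevalley.G2.cert.w 0 p.1, p.2 * (Chevalley.G2.cert.sg 0 p.1 : F)))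
      [(6, D), (8, C), (9, B), (10, -a), (11, 0)] ?_
    · rw [dC, dC, ← h]
      refine congrArg (fun W : Submodule ℂ V => finrank ℂ W) ?_
      simp only [List.map_cons, List.map_nil,
        show Chevalley.G2.cert.w 0 6 = 10 ∧ Chevalley.G2.cert.sg 0 6 = 1 by decide +kernel,
        show Chevalley.G2.cert.w 0 8 = 9 ∧ Chevalley.G2.cert.sg 0 8 = 1 by decide +kernel,
        show Chevalley.G2.cert.w 0 9 = 8 ∧ Chevalley.G2.cert.sg 0 9 = -1 by decide +kernel,
        show Chevalley.G2.cert.w 0 10 = 6 ∧ Chevalley.G2.cert.sg 0 10 = -1 by decide +kernel,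
        show Chevalley.G2.cert.w 0 11 = 11 ∧ Chevalley.G2.cert.sg 0 11 = 1 by decide +kernel,
        Int.cast_one, Int.cast_neg, mul_one, mul_neg, neg_neg]
      refine Wt_congr ρ fun p => ?_
      simp only [List.mem_cons, List.not_mem_nil, or_false]
      tauto
    · intro p hp
      simp only [List.mem_cons, List.not_mem_nil, or_false] at hp
      have hs : ∀ r, (Chevalley.G2.cert.sg 0 r : F) * (Chevalley.G2.cert.sg 0 r : F) = 1 := fun r => by
        rcases Chevalley.G2.cert.sg_pm 0 r with e | e <;> simp [e]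
      refine ⟨(Chevalley.G2.cert.sg 0 p.1 : F), ?_, by rw [mul_assoc, hs, mul_one],
        fun t => nA_mul p.1 _ _ ⟨rfl, rfl⟩ ?_ t⟩
      · exact left_ne_zero_of_mul_eq_one (hs p.1)
      · rcases hp with rfl | rfl | rfl | rfl | rfl <;> simp

/-- multiplicity of the shifted weights above a character of the highest root subgroup -/
noncomputable def dH (t : F) : ℕ := finrank ℂ (Wt ρ [(6, (0 : F)), (8, 0), (11, t)])

theorem dC_zero_le : dC ρ 0 0 0 0 ≤ finrank ℂ (Wt ρ [(11, (0 : F)), (6, 0)]) :=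
  Submodule.finrank_mono (Wt_mono ρ fun p hp => by
    simp only [List.mem_cons, List.not_mem_nil, or_false] at hp
    rcases hp with rfl | rfl <;> simp)

theorem shift_le (t α β s : F) :
    finrank ℂ (Wt ρ [(6, β), (8, α), (11, t)]) ≤
      finrank ℂ (Wt ρ [(6, β + t * s), (8, α), (11, t)]) := by
  refine finrank_le_of_maps ρ (X 10 s) fun v hv => ?_
  simp only [mem_Wt, List.forall_mem_cons, List.not_mem_nil, false_implies, implies_true,
    and_true] at hv ⊢
  obtain ⟨h6, h8, h11⟩ := hv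
  refine ⟨fun u => move ρ (comm6_10 s u) ?_, fun u => ?_, fun u => ?_⟩
  · simp only [rho_mul_apply, h11, h6, map_smul, smul_smul, ← AddChar.map_add_eq_mul]
    congr 2; ring
  · exact move ρ (commute_X (by decide +kernel) (by decide) (by decide) (by decide) (by decide) s u)
      (h8 u)
  · exact move ρ (commute_X (by decide +kernel) (by decide) (by decide) (by decide) (by decide) s u)
      (h11 u)

theorem shift_le' (t α β s : F) :
    finrank ℂ (Wt ρ [(6, β), (8, α), (11, t)]) ≤
      finrank ℂ (Wt ρ [(6, β), (8, α + 3 * t * s), (11, t)]) := by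
  refine finrank_le_of_maps ρ (X 9 s) fun v hv => ?_
  simp only [mem_Wt, List.forall_mem_cons, List.not_mem_nil, false_implies, implies_true,
    and_true] at hv ⊢
  obtain ⟨h6, h8, h11⟩ := hv
  refine ⟨fun u => ?_, fun u => move ρ (comm8_9 s u) ?_, fun u => ?_⟩
  · exact move ρ (commute_X (by decide +kernel) (by decide) (by decide) (by decide) (by decide) s u)
      (h6 u)
  · simp only [rho_mul_apply, h11, h8, map_smul, smul_smul, ← AddChar.map_add_eq_mul]
    congr 2; ring
  · exact move ρ (commute_X (by decide +kernel) (by decide) (by decide) (by decide) (by decide) s u)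
      (h11 u)

theorem shift_eq (h3 : (3 : F) ≠ 0) {t : F} (ht : t ≠ 0) (α β : F) :
    finrank ℂ (Wt ρ [(6, β), (8, α), (11, t)]) = dH ρ t := by
  have e1 : ∀ γ β' α' : F, finrank ℂ (Wt ρ [(6, β'), (8, α'), (11, t)]) ≤
      finrank ℂ (Wt ρ [(6, γ), (8, α'), (11, t)]) := fun γ β' α' => by
    have h := shift_le ρ t α' β' ((γ - β') / t)
    rwa [show β' + t * ((γ - β') / t) = γ by field_simp; ring] at h
  have e2 : ∀ γ β' α' : F, finrank ℂ (Wt ρ [(6, β'), (8, α'), (11, t)]) ≤
      finrank ℂ (Wt ρ [(6, β'), (8, γ), (11, t)]) := fun γ β' α' => by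
    have h := shift_le' ρ t α' β' ((γ - α') / (3 * t))
    rwa [show α' + 3 * t * ((γ - α') / (3 * t)) = γ by field_simp; ring] at h
  exact le_antisymm ((e1 0 β α).trans (e2 0 0 α)) ((e2 α 0 0).trans (e1 β 0 α))

theorem dH_eq {t : F} (ht : t ≠ 0) : dH ρ t = dH ρ 1 := by
  have h := finrank_map_eq ρ (hG 6 t⁻¹) (fun p : ℕ × F => (p.1, p.2 * t))
    [(6, (0 : F)), (8, 0), (11, 1)] ?_
  · refine (congrArg (fun W : Submodule ℂ V => finrank ℂ W) ?_).trans h
    simp
  · intro p hp
    simp only [List.mem_cons, List.not_mem_nil, or_false] at hp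
    rcases hp with rfl | rfl | rfl
    · exact ⟨t⁻¹ ^ 2, pow_ne_zero _ (inv_ne_zero ht), by simp,
        hG_scale 6 6 2 (by decide +kernel) ht⟩
    · exact ⟨t⁻¹ ^ 1, pow_ne_zero _ (inv_ne_zero ht), by simp,
        hG_scale 6 8 1 (by decide +kernel) ht⟩
    · exact ⟨t⁻¹ ^ 1, pow_ne_zero _ (inv_ne_zero ht), by simp [ht],
        hG_scale 6 11 1 (by decide +kernel) ht⟩

theorem finrank_eq11 (h3 : (3 : F) ≠ 0) {t : F} (ht : t ≠ 0) :
    finrank ℂ (Wt ρ [(11, t)]) = Fintype.card F ^ 2 * dH ρ 1 := by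
  rw [split ρ 8 [(11, t)] (preserves_of_commute ρ 8 _ fun p hp s u => by
    simp only [List.mem_singleton] at hp
    subst hp
    dsimp only
    exact commute_X (by decide +kernel) (by decide) (by decide) (by decide) (by decide) u s)]
  have h : ∀ α : F, finrank ℂ (Wt ρ [(8, α), (11, t)]) = Fintype.card F * dH ρ 1 := by
    intro α
    rw [split ρ 6 [(8, α), (11, t)] (preserves_of_commute ρ 6 _ fun p hp s u => by
      simp only [List.mem_cons, List.not_mem_nil, or_false] at hp
      rcases hp with rfl | rfl <;> dsimp only <;>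
        exact commute_X (by decide +kernel) (by decide) (by decide) (by decide) (by decide) u s)]
    simp [shift_eq ρ h3 ht, dH_eq ρ ht]
  simp [h, pow_two, mul_assoc]

theorem finrank_formula (h3 : (3 : F) ≠ 0) :
    finrank ℂ V = (∑ x : F × F × F × F, uc (dC ρ) x) +
      (Fintype.card F - 1) * (Fintype.card F ^ 2 * dH ρ 1) := by
  have h := split ρ 11 ([] : List (ℕ × F)) (by rw [Wt_nil]; intros; trivial)
  rw [Wt_nil, finrank_top] at h
  rw [h, ← Finset.add_sum_erase _ _ (Finset.mem_univ (0 : F)), finrank_fix11,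
    Finset.sum_congr rfl fun t ht => finrank_eq11 ρ h3 (Finset.ne_of_mem_erase ht),
    Finset.sum_const, Finset.card_erase_of_mem (Finset.mem_univ _), Finset.card_univ, smul_eq_mul]

theorem dH_pos [ρ.IsIrreducible] (hV : 2 ≤ finrank ℂ V) (hq : 3 ≤ Fintype.card F)
    (h3 : (3 : F) ≠ 0) : 0 < dH ρ 1 := by
  by_contra h
  have hf := finrank_formula ρ h3
  rw [Nat.eq_zero_of_not_pos h, mul_zero, mul_zero, add_zero, ← finrank_fix11] at hf
  have htop : Wt ρ [(11, (0 : F))] = ⊤ := Submodule.eq_top_of_finrank_eq hf.symm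
  obtain ⟨t, v, hv⟩ := exists_moved ρ hV hq (show 11 < 12 by decide)
  have hm : v ∈ Wt ρ [(11, (0 : F))] := htop ▸ Submodule.mem_top
  exact hv (by simpa using hm (11, 0) (by simp) t)

theorem exists_weight [ρ.IsIrreducible] (hV : 2 ≤ finrank ℂ V) (hq : 3 ≤ Fintype.card F)
    (h3 : (3 : F) ≠ 0) : ∃ x : F × F × F × F, x ≠ 0 ∧ 0 < uc (dC ρ) x := by
  by_contra h
  push Not at h
  have hsum : ∑ x : F × F × F × F, uc (dC ρ) x = dC ρ 0 0 0 0 :=
    Finset.sum_eq_single_of_mem 0 (Finset.mem_univ _) fun x _ hx => Nat.le_zero.1 (h x hx)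
  have hconj : finrank ℂ (Wt ρ [(6, (0 : F))]) = finrank ℂ (Wt ρ [(11, (0 : F))]) :=
    (finrank_map_moves ρ nA 6 10 (nA_moves 6 10 (by decide) (by decide +kernel))).trans
      (finrank_map_moves ρ nB 10 11 (nB_moves 10 11 (by decide) (by decide +kernel)))
  have hsplit := split ρ 11 [(6, (0 : F))] (preserves_of_commute ρ 11 _ fun p hp s u => by
    simp only [List.mem_singleton] at hp
    subst hp
    dsimp only
    exact commute_X (by decide +kernel) (by decide) (by decide) (by decide) (by decide) u s)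
  have h01 : finrank ℂ (Wt ρ [(11, (0 : F)), (6, 0)]) + finrank ℂ (Wt ρ [(11, (1 : F)), (6, 0)]) ≤
      ∑ t : F, finrank ℂ (Wt ρ [(11, t), (6, 0)]) := by
    rw [← Finset.sum_pair (f := fun t : F => finrank ℂ (Wt ρ [(11, t), (6, (0 : F))]))
      (zero_ne_one' F)]
    exact Finset.sum_le_sum_of_subset (Finset.subset_univ _)
  have h1 : dH ρ 1 ≤ finrank ℂ (Wt ρ [(11, (1 : F)), (6, 0)]) :=
    Submodule.finrank_mono (Wt_mono ρ fun p hp => by
      simp only [List.mem_cons, List.not_mem_nil, or_false] at hp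
      rcases hp with rfl | rfl <;> simp)
  have := dH_pos ρ hV hq h3
  have := dC_zero_le ρ
  rw [finrank_fix11, hsum] at hconj
  omega

/-- the bound `q³ - 1` -/
theorem long_bound [ρ.IsIrreducible] (hV : 2 ≤ finrank ℂ V) (hq : 5 ≤ Fintype.card F)
    (h3 : (3 : F) ≠ 0) : Fintype.card F ^ 3 - 1 + dC ρ 0 0 0 0 ≤ finrank ℂ V := by
  have h1 := cubic_bound (dC_inv ρ) h3 hq (exists_weight ρ hV (by omega) h3)
  have h2 := dH_pos ρ hV (by omega) h3
  rw [finrank_formula ρ h3]
  obtain ⟨n, hn⟩ : ∃ n, Fintype.card F = n + 5 := ⟨Fintype.card F - 5, by omega⟩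
  have h4 : (Fintype.card F - 1) * (Fintype.card F ^ 2 * 1) ≤
      (Fintype.card F - 1) * (Fintype.card F ^ 2 * dH ρ 1) :=
    Nat.mul_le_mul_left _ (Nat.mul_le_mul_left _ h2)
  have h5 : Fintype.card F ^ 3 - 1 ≤
      Fintype.card F ^ 2 - 1 + (Fintype.card F - 1) * (Fintype.card F ^ 2 * 1) := by
    rw [hn, show n + 5 - 1 = n + 4 by omega]
    ring_nf; omega
  have : uc (dC ρ) 0 = dC ρ 0 0 0 0 := rfl
  omega

/-- consequences of a degree at most `q³` -/
theorem long_small [ρ.IsIrreducible] (hV : 2 ≤ finrank ℂ V) (hq : 5 ≤ Fintype.card F)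
    (h3 : (3 : F) ≠ 0) (hk : finrank ℂ V ≤ Fintype.card F ^ 3) :
    dC ρ 0 0 0 0 ≤ 1 ∧ dC ρ 0 0 0 1 = 1 ∧
      ∀ x : F × F × F × F, x ≠ 0 → 0 < uc (dC ρ) x → IsCube x := by
  have hne := exists_weight ρ hV (by omega) h3
  have h1 := cubic_bound (dC_inv ρ) h3 hq hne
  have h2 := dH_pos ρ hV (by omega) h3
  have h0 := long_bound ρ hV hq h3
  have hf := finrank_formula ρ h3
  obtain ⟨n, hn⟩ : ∃ n, Fintype.card F = n + 5 := ⟨Fintype.card F - 5, by omega⟩
  have h6 : 1 ≤ Fintype.card F ^ 3 := Nat.one_le_pow _ _ (by omega)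
  have h4 : (Fintype.card F - 1) * (Fintype.card F ^ 2 * 1) ≤
      (Fintype.card F - 1) * (Fintype.card F ^ 2 * dH ρ 1) :=
    Nat.mul_le_mul_left _ (Nat.mul_le_mul_left _ h2)
  have h7 : Fintype.card F ^ 3 = (Fintype.card F - 1) * (Fintype.card F ^ 2 * 1) +
      Fintype.card F ^ 2 := by
    rw [hn, show n + 5 - 1 = n + 4 by omega]; ring
  obtain ⟨e1, e2⟩ := cubic_small (dC_inv ρ) h3 hq hne (by omega)
  exact ⟨by omega, e1, e2⟩

end Cfsg.Agent.H53.G2
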